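import Cfsg.Agent.H37.TwoGen.Torus
import Cfsg.Agent.H37.Chev.All

/-!
Two generators of the seven tabulated groups.
-/
set_option autoImplicit false
set_option maxRecDepth 100000

namespace Cfsg.Agent.H37.TwoGen

open Cfsg.Lie

/-- The steps for E6. -/
def stepsE6 : List (ℕ × ℕ) := [(36, 8), (36, 11), (36, 59), (36, 37), (8, 28), (8, 56), (8, 52), (8, 60), (8, 38), (28, 23), (28, 42), (28, 39), (28, 9), (28, 15), (28, 25), (23, 11), (23, 47), (23, 37), (23, 3), (23, 29), (23, 13), (11, 56), (11, 59), (11, 18), (11, 24), (11, 20), (56, 42), (56, 52), (56, 12), (56, 5), (56, 6), (42, 47), (42, 39), (42, 19), (42, 26), (42, 27), (47, 59), (47, 37), (47, 60), (47, 38), (47, 10), (47, 32), (47, 57), (47, 22), (59, 52), (59, 15), (59, 34), (59, 50), (59, 49), (59, 14), (59, 46), (52, 39), (52, 25), (52, 35), (52, 64), (52, 58), (52, 40), (39, 38), (39, 69), (39, 51)]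

theorem critA_E6 : critA Chevalley.E6.cert 12 36 1 [1, 0, 0, 0, 0, 0] stepsE6 = true := by decide +kernel

/-- The steps for E7. -/
def stepsE7 : List (ℕ × ℕ) := [(63, 23), (63, 39), (63, 97), (63, 64), (23, 51), (23, 56), (23, 86), (23, 98), (23, 65), (51, 45), (51, 59), (51, 69), (51, 24), (51, 32), (51, 47), (51, 25), (45, 28), (45, 61), (45, 66), (45, 14), (45, 52), (45, 15), (45, 30), (28, 39), (28, 62), (28, 64), (28, 38), (28, 46), (28, 5), (28, 41), (39, 56), (39, 102), (39, 19), (39, 29), (39, 10), (39, 21), (56, 59), (56, 74), (56, 40), (56, 11), (56, 3), (56, 12), (59, 61), (59, 80), (59, 20), (59, 36), (59, 37), (59, 8), (61, 62), (61, 97), (61, 50), (61, 55), (61, 18), (61, 34), (62, 102), (62, 86), (62, 44), (62, 58), (62, 49), (62, 54), (102, 74), (102, 69), (102, 27), (102, 60), (102, 43), (102, 57), (74, 80), (74, 66), (74, 93), (74, 101), (74, 78), (74, 100), (80, 97), (80, 64), (80, 98), (80, 65), (80, 47), (80, 25), (80, 73), (80, 111), (80, 95), (80, 110), (97, 86), (97, 32), (97, 30), (97, 79), (97, 87),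 (97, 82), (97, 31), (97, 84), (97, 120), (86, 69), (86, 47), (86, 42), (86, 96), (86, 106), (86, 70), (86, 104), (86, 115), (86, 71), (69, 85), (69, 114), (69, 68), (69, 113), (69, 122), (66, 25), (66, 88), (66, 117)]

theorem critA_E7 : critA Chevalley.E7.cert 18 63 1 [1, 0, 0, 0, 0, 0, 0] stepsE7 = true := by decide +kernel

/-- The steps for E8. -/
def stepsE8 : List (ℕ × ℕ) := [(120, 66), (120, 62), (120, 167), (120, 121), (66, 103), (66, 102), (66, 151), (66, 168), (66, 122), (103, 96), (103, 95), (103, 130), (103, 67), (103, 77), (103, 98), (103, 68), (96, 73), (96, 72), (96, 126), (96, 52), (96, 104), (96, 53), (96, 75), (96, 54), (73, 89), (73, 88), (73, 123), (73, 87), (73, 97), (73, 33), (73, 91), (73, 34), (89, 62), (89, 109), (89, 121), (89, 61), (89, 74), (89, 45), (89, 64), (89, 12), (62, 102), (62, 113), (62, 48), (62, 90), (62, 29), (62, 50), (62, 20), (102, 95), (102, 116), (102, 63), (102, 30), (102, 10), (102, 31), (102, 6), (95, 72), (95, 118), (95, 49), (95, 43), (95, 44), (95, 18), (95, 7), (72, 88), (72,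 119), (72, 86), (72, 83), (72, 28), (72, 24), (72, 14), (88, 109), (88, 173), (88, 60), (88, 58), (88, 42), (88, 39), (88, 8), (109, 113), (109, 136), (109, 47), (109, 46), (109, 27), (109, 26), (109, 16), (113, 116), (113, 143), (113, 85), (113, 84), (113, 41), (113, 40), (113, 22), (116, 118), (116, 166), (116, 59), (116, 108), (116, 82), (116, 81), (116, 37), (118, 119), (118, 150), (118, 101), (118, 112), (118, 57), (118, 107), (118, 79), (119, 173), (119, 177), (119, 94), (119, 115), (119, 100), (119, 111), (119, 106), (173, 136), (173, 137), (173, 71), (173, 117), (173, 93), (173, 114), (173, 110), (136, 143), (136, 144), (136, 162), (136, 172), (136, 141), (136, 171), (136, 170), (143, 166), (143, 167), (143, 168), (143, 98), (143, 135), (143, 187), (143, 164), (143, 186), (143, 185), (166, 150), (166, 151), (166, 77), (166, 75), (166, 142), (166, 152), (166, 148), (166, 206), (166, 205), (150, 177), (150, 130), (150, 168), (150, 98), (150, 104), (150, 92), (150, 91), (150, 165), (150, 178), (150, 180), (150, 131), (150,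 175), (150, 194), (150, 227), (177, 137), (177, 77), (177, 75), (177, 65), (177, 149), (177, 191), (177, 138), (177, 127), (177, 139), (177, 128), (177, 189), (177, 210), (177, 157), (177, 219), (137, 144), (137, 176), (137, 209), (137, 146), (137, 125), (137, 208), (137, 229), (137, 182), (137, 183), (137, 233), (144, 167), (144, 98), (144, 68), (144, 35), (144, 190), (144, 193), (144, 139), (144, 196), (144, 199), (144, 195), (144, 221), (144, 140), (144, 232), (144, 202), (167, 153), (167, 156), (167, 76), (167, 211), (167, 215), (167, 225), (167, 160), (151, 92), (151, 197), (151, 200), (151, 133), (151, 231), (130, 65), (130, 129), (130, 223), (126, 69)]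

theorem critA_E8 : critA Chevalley.E8.cert 30 120 1 [1, 0, 0, 0, 0, 0, 0, 0] stepsE8 = true := by decide +kernel

theorem critB_G2 : critB Chevalley.G2.cert 6 7 5 1 [1, 2] [] = true := by
  decide +kernel

theorem critB_B2 : critB Chevalley.B2.cert 4 4 1 1 [1, 1] [] = true := by
  decide +kernel

theorem critB_D4 : critB Chevalley.D4.cert 6 12 21 1 [1, 0, 0, 0] [(12, 3), (12, 16), (12, 8), (12, 21), (3, 7), (3, 15), (3, 10), (7, 11), (7, 21), (11, 20), (11, 15), (20, 16)] = true := by
  decide +kernel

theorem critB_F4 : critB Chevalley.F4.cert 12 24 33 1 [1, 1, 0, 0] [(24, 5), (24, 25), (5, 17), (17, 4), (4, 16), (16, 22), (22, 23), (23, 42), (42, 30), (30, 43), (30, 26), (43, 31), (27, 35), (27, 33), (35, 38), (38, 28), (28, 36), (36, 14), (14, 20), (20, 12), (12, 9), (9, 19), (9, 34), (19, 11)] = true := by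
  decide +kernel

theorem critC_D4 : critC Chevalley.D4.cert 6 12 1
    [(2, [.inl (0, false), .inl (0, false)]), (5, [.inl (5, false), .inr 2, .inl (5, true), .inr 2]),
      (0, [.inr 2, .inr 8, .inr 2, .inr 8]), (7, [.inr 2, .inr 18, .inr 2, .inr 18])] = true := by
  decide +kernel

theorem critC_F4 : critC Chevalley.F4.cert 12 24 3
    [(6, [.inl (0, false), .inl (1, false), .inl (0, true), .inl (1, true)]),
      (4, [.inr 6, .inr 21, .inr 6, .inr 21]), (3, [.inr 24, .inl (0, false)]),
      (11, [.inl (5, false), .inr 3, .inl (5, true), .inr 3])] = true := by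
  decide +kernel

theorem exists_two_generators {F : Type*} [Field F] [Finite F] {D : ChevalleyDatum}
    (hD : D ∈ [chevG2, chevB2, chevD4, chevF4, chevE6, chevE7, chevE8])
    (hF : D ∈ [chevB2, chevG2] → ∃ x : F, x ≠ 0 ∧ x ≠ 1) :
    ∃ a b : ↥(D.group F), Subgroup.closure ({a, b} : Set ↥(D.group F)) = ⊤ := by
  classical
  haveI : Fintype F := Fintype.ofFinite F
  have hsmall : Fintype.card F = 2 ∨ ∃ x : F, x ≠ 0 ∧ x ≠ 1 := by
    by_cases h : ∃ x : F, x ≠ 0 ∧ x ≠ 1
    · exact Or.inr h
    · refine Or.inl ?_
      push_neg at h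
      have : (Finset.univ : Finset F) = {0, 1} := by
        ext x
        by_cases hx : x = 0
        · simp [hx]
        · simp [h x hx]
      rw [← Finset.card_univ, this, Finset.card_pair zero_ne_one]
  simp only [List.mem_cons, List.not_mem_nil, or_false] at hD
  rcases hD with rfl | rfl | rfl | rfl | rfl | rfl | rfl
  · exact twoGen_B (Chev.dataG2 F) (hF (by simp)) critB_G2
  · exact twoGen_B (Chev.dataB2 F) (hF (by simp)) critB_B2
  · rcases hsmall with h | h
    · exact twoGen_C (Chev.dataD4 F) h critC_D4
    · exact twoGen_B (Chev.dataD4 F) h critB_D4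
  · rcases hsmall with h | h
    · exact twoGen_C (Chev.dataF4 F) h critC_F4
    · exact twoGen_B (Chev.dataF4 F) h critB_F4
  · exact twoGen_A (Chev.dataE6 F) critA_E6
  · exact twoGen_A (Chev.dataE7 F) critA_E7
  · exact twoGen_A (Chev.dataE8 F) critA_E8

end Cfsg.Agent.H37.TwoGen
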