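import Cfsg.Agent.H37.Twist.ReeCommon
import Cfsg.Agent.H37.Twist.Torus
import Cfsg.Agent.H37.Chev.Perfect

/-!
Two generators of a tabulated Chevalley group: tools and three criteria.
-/
set_option autoImplicit false

namespace Cfsg.Agent.H37.TwoGen

open Cfsg.Lie Cfsg.Agent.H37.RootSys Cfsg.Agent.H37.Twist

variable {D : ChevalleyDatum} {F : Type*} [Field F] (Q : Chev.Data D F)

/-- The product of the fundamental representatives. -/
def cox : ↥(D.group F) := ((List.range D.rank).map fun i => nUG Q (D.simple i) 1).prod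

/-- Its action on the roots. -/
def coxMap (C : Chevalley.Cert D) (r : ℕ) : ℕ := (List.range D.rank).foldr C.w r

/-- The roots of the first `h` steps of an orbit. -/
def orbit (C : Chevalley.Cert D) (h r : ℕ) : List ℕ := List.iterate (coxMap C) r h

theorem cox_conj {r : ℕ} (hr : r < D.nroots) :
    coxMap Q.K r < D.nroots ∧ ∃ ε : F, (ε = 1 ∨ ε = -1) ∧ ∀ t : F,
      cox Q * xG Q.K F r t * (cox Q)⁻¹ = xG Q.K F (coxMap Q.K r) (ε * t) := by
  unfold cox coxMap
  have key : ∀ l : List ℕ, (∀ i ∈ l, i < D.rank) →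
      l.foldr Q.K.w r < D.nroots ∧ ∃ ε : F, (ε = 1 ∨ ε = -1) ∧ ∀ t : F,
        (l.map fun i => nUG Q (D.simple i) 1).prod * xG Q.K F r t *
          ((l.map fun i => nUG Q (D.simple i) 1).prod)⁻¹ = xG Q.K F (l.foldr Q.K.w r) (ε * t) := by
    intro l
    induction l with
    | nil => intro _; exact ⟨hr, 1, Or.inl rfl, fun t => by simp⟩
    | cons i l ih =>
        intro hl
        obtain ⟨hlt, ε, hε, e⟩ := ih fun a ha => hl a (List.mem_cons_of_mem _ ha)
        have hi := hl i (by simp)
        rw [List.foldr_cons]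
        refine ⟨(Q.K.w_lt i hi _ hlt).1, (Q.K.sg i (l.foldr Q.K.w r) : F) * ε, ?_, fun t => ?_⟩
        · rcases hε with rfl | rfl <;> rcases Q.K.sg_pm i (l.foldr Q.K.w r) with h | h <;> simp [h]
        rw [List.map_cons, List.prod_cons,
          show ∀ a b x : ↥(D.group F), a * b * x * (a * b)⁻¹ = a * (b * x * b⁻¹) * a⁻¹
            from fun a b x => by group, e]
        refine Subtype.ext ?_
        show Q.K.nS F i * Q.K.xU F _ _ * (Q.K.nS F i)⁻¹ = Q.K.xU F _ _
        rw [Q.K.nS_conj_xU F hi hlt, mul_assoc]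
  exact key _ fun i hi => List.mem_range.1 hi

variable (M : Subgroup ↥(D.group F))

/-- A whole root subgroup inside. -/
def Full (r : ℕ) : Prop := ∀ t, xG Q.K F r t ∈ M

theorem mem_iff_sign {r : ℕ} (hr : r < D.nroots) {ε : F} (hε : ε = 1 ∨ ε = -1) (t : F) :
    xG Q.K F r (ε * t) ∈ M ↔ xG Q.K F r t ∈ M := by
  rcases hε with rfl | rfl
  · rw [one_mul]
  · rw [neg_one_mul, show xG Q.K F r (-t) = (xG Q.K F r t)⁻¹ from
      Subtype.ext (Q.K.xU_inv F r t).symm, inv_mem_iff]

theorem orbit_mem (hn : cox Q ∈ M) {r : ℕ} (hr : r < D.nroots) : ∀ k : ℕ,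
    (coxMap Q.K)^[k] r < D.nroots ∧
      ∀ t, xG Q.K F r t ∈ M → xG Q.K F ((coxMap Q.K)^[k] r) t ∈ M
  | 0 => ⟨hr, fun _ h => h⟩
  | k + 1 => by
      obtain ⟨h1, h2⟩ := orbit_mem hn hr k
      rw [Function.iterate_succ_apply']
      obtain ⟨h3, ε, hε, e⟩ := cox_conj Q h1
      refine ⟨h3, fun t ht => ?_⟩
      rw [← mem_iff_sign Q M h3 hε, ← e]
      exact mul_mem (mul_mem hn (h2 t ht)) (inv_mem hn)

theorem full_orbit (hn : cox Q ∈ M) {r : ℕ} (hr : r < D.nroots) (h : Full Q M r) {n : ℕ} :
    ∀ x ∈ orbit Q.K n r, x < D.nroots ∧ Full Q M x := by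
  intro x hx
  obtain ⟨k, -, rfl⟩ := List.mem_iterate.1 hx
  exact ⟨(orbit_mem Q M hn hr k).1, fun t => (orbit_mem Q M hn hr k).2 t (h t)⟩

theorem orbit_back (hn : cox Q ∈ M) : ∀ (i : ℕ) {s : ℕ}, s < D.nroots → ∀ t : F,
    xG Q.K F ((coxMap Q.K)^[i] s) t ∈ M → xG Q.K F s t ∈ M
  | 0, _, _, _, h => h
  | i + 1, s, hs, t, ht => by
      rw [Function.iterate_succ_apply'] at ht
      have hs' := (orbit_mem Q M hn hs i).1
      obtain ⟨-, ε, hε, e⟩ := cox_conj Q hs'
      refine orbit_back hn i hs t ((mem_iff_sign Q M hs' hε t).1 ?_)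
      have h1 : cox Q * xG Q.K F ((coxMap Q.K)^[i] s) (ε * t) * (cox Q)⁻¹ ∈ M := by
        rw [e, show ε * (ε * t) = t by rcases hε with rfl | rfl <;> ring]
        exact ht
      rwa [Subgroup.mul_mem_cancel_right M (inv_mem hn),
        Subgroup.mul_mem_cancel_left M hn] at h1

/-- The target of a commutator with a single unit term. -/
def step (D : ChevalleyDatum) (a b : ℕ) : Option ℕ :=
  if b == a || b == D.neg a then none else
  match D.commTerms a b with
  | [(u, c, 1, 1)] => if c == 1 || c == -1 then some u else none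
  | _ => none

/-- Roots obtained by successive steps. -/
def steps (D : ChevalleyDatum) : List ℕ → List (ℕ × ℕ) → List ℕ
  | S, [] => S
  | S, (a, b) :: l =>
      steps D (if S.contains a && S.contains b then
        (match step D a b with | some u => u :: S | none => S) else S) l

theorem full_step {a b u : ℕ} (ha : a < D.nroots) (hb : b < D.nroots) (h : step D a b = some u)
    (fa : Full Q M a) (fb : Full Q M b) : u < D.nroots ∧ Full Q M u := by
  unfold step at h
  split at h
  · simp at h
  rename_i hne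
  simp only [Bool.or_eq_true, beq_iff_eq, not_or] at hne
  split at h
  case h_2 => simp at h
  rename_i u' c hc
  split at h
  case isFalse => simp at h
  rename_i hc1
  obtain rfl : u' = u := by simpa using h
  simp only [Bool.or_eq_true, beq_iff_eq] at hc1
  refine ⟨(Q.K.commTerms_cf (r := a) (s := b) (c := (u', c, 1, 1)) (by rw [hc]; simp)).1.1,
    fun t => ?_⟩
  have e := xG_comm (Q := Q) ha hb hne.1 hne.2 (-(c : F)) t
  rw [hc] at e
  simp only [List.map_cons, List.map_nil, List.prod_cons, List.prod_nil, mul_one, neg_neg,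
    pow_one] at e
  have hcc : (c : F) * (c : F) * t = t := by rcases hc1 with rfl | rfl <;> simp
  rw [hcc] at e
  rw [show xG Q.K F u' t = (xG Q.K F a (-(c : F)) * xG Q.K F b t)⁻¹ *
    (xG Q.K F b t * xG Q.K F a (-(c : F))) by rw [e]; group]
  exact mul_mem (inv_mem (mul_mem (fa _) (fb _))) (mul_mem (fb _) (fa _))

theorem full_steps : ∀ (l : List (ℕ × ℕ)) (S : List ℕ),
    (∀ x ∈ S, x < D.nroots ∧ Full Q M x) → ∀ x ∈ steps D S l, x < D.nroots ∧ Full Q M x
  | [], _, h => h
  | (a, b) :: l, S, h => by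
      rw [steps]
      refine full_steps l _ ?_
      split
      · rename_i hab
        simp only [Bool.and_eq_true, List.contains_iff_mem] at hab
        split
        · rename_i u hu
          intro x hx
          rcases List.mem_cons.1 hx with rfl | hx
          · exact full_step Q M (h a hab.1).1 (h b hab.2).1 hu (h a hab.1).2 (h b hab.2).2
          · exact h x hx
        · exact h
      · exact h

/-- All roots are reached. -/
def covers (D : ChevalleyDatum) (S : List ℕ) (l : List (ℕ × ℕ)) : Bool :=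
  (List.range D.nroots).all fun r => (steps D S l).contains r

theorem top_of_covers {S : List ℕ} {l : List (ℕ × ℕ)}
    (hS : ∀ x ∈ S, x < D.nroots ∧ Full Q M x) (h : covers D S l = true) : M = ⊤ := by
  simp only [covers, List.all_eq_true, List.mem_range, List.contains_iff_mem] at h
  rw [eq_top_iff]
  intro g _
  have hle : D.group F ≤ M.map (D.group F).subtype := by
    conv_lhs => rw [Q.K.group_eq]
    refine (Subgroup.closure_le _).2 ?_
    rintro _ ⟨r, t, hr, rfl⟩
    exact ⟨_, (full_steps Q M l S hS r (h r hr)).2 t, rfl⟩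
  obtain ⟨g', hg', e⟩ := hle g.2
  rwa [← Subtype.ext (a1 := g') (a2 := g) e]

/-- An exponent whose powers of a generator span the field. -/
def okExp (e : ℤ) : Bool := e == 1 || e == -1 || e == 2 || e == -2

omit D in
theorem span_all [Finite F] {ζ : Fˣ} (hζ : ∀ x : Fˣ, x ∈ Subgroup.zpowers ζ) {e : ℤ}
    (he : okExp e = true) {P : F → Prop} (h0 : P 0) (hadd : ∀ a b, P a → P b → P (a + b))
    (hneg : ∀ a, P a → P (-a)) (hgen : ∀ k : ℤ, P (((ζ ^ e) ^ k : Fˣ) : F)) : ∀ x, P x := by
  simp only [okExp, Bool.or_eq_true, beq_iff_eq] at he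
  have hpow : ∀ u : Fˣ, P ((u ^ e : Fˣ) : F) := by
    intro u
    obtain ⟨k, rfl⟩ := Subgroup.mem_zpowers_iff.1 (hζ u)
    rw [← zpow_mul, mul_comm, zpow_mul]
    exact hgen k
  have he' : e = 1 ∨ e = -1 ∨ (e = 2 ∨ e = -2) := by tauto
  rcases he' with rfl | rfl | he
  · intro x
    by_cases hx : x = 0
    · subst hx; exact h0
    · simpa using hpow (Units.mk0 x hx)
  · intro x
    by_cases hx : x = 0
    · subst hx; exact h0
    · simpa using hpow (Units.mk0 x hx)⁻¹
  · have hsq : ∀ y : F, P (y ^ 2) := by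
      intro y
      by_cases hy : y = 0
      · subst hy; simpa using h0
      · rcases he with rfl | rfl
        · simpa using hpow (Units.mk0 y hy)
        · have := hpow (Units.mk0 y hy)⁻¹
          simpa [zpow_ofNat] using this
    intro x
    by_cases h2 : (2 : F) = 0
    · haveI : CharP F 2 := CharTwo.of_one_ne_zero_of_two_eq_zero one_ne_zero h2
      haveI : Fintype F := Fintype.ofFinite F
      obtain ⟨y, rfl⟩ := FiniteField.isSquare_of_char_two (ringChar.eq F 2) x
      rw [← pow_two]; exact hsq y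
    · have e : x = ((x + 1) / 2) ^ 2 + -(((x - 1) / 2) ^ 2) := by field_simp; ring
      rw [e]
      exact hadd _ _ (hsq _) (hneg _ (hsq _))

/-- The exponent of the torus element with exponents `k` on a root. -/
def ev (D : ChevalleyDatum) (k : List ℤ) (r : ℕ) : ℤ :=
  ∑ m : Fin D.rank, k.getD m.val 0 * D.cartan m.val r

/-- The torus element with exponents `k` of `ζ`. -/
def tor (ζ : Fˣ) (k : List ℤ) : ↥(D.group F) :=
  tG Q (fun m : Fin D.rank => ζ ^ k.getD m.val 0)

theorem tor_conj (ζ : Fˣ) (k : List ℤ) {r : ℕ} (hr : r < D.nroots) (t : F) :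
    tor Q ζ k * xG Q.K F r t * (tor Q ζ k)⁻¹ = xG Q.K F r (((ζ ^ ev D k r : Fˣ) : F) * t) := by
  rw [tor, tG_conj Q _ hr, chT, ev]
  congr 3
  generalize (Finset.univ : Finset (Fin D.rank)) = S
  classical
  induction S using Finset.induction with
  | empty => simp
  | insert a S ha ih => rw [Finset.sum_insert ha, Finset.prod_insert ha, zpow_add, ih, zpow_mul]

/-- A root subgroup is filled by a torus element from one nontrivial element. -/
theorem full_of_torus [Finite F] {ζ : Fˣ} (hζ : ∀ x : Fˣ, x ∈ Subgroup.zpowers ζ) {k : List ℤ}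
    (hh : tor Q ζ k ∈ M) {r : ℕ} (hr : r < D.nroots) (he : okExp (ev D k r) = true) {c : F}
    (hc : c ≠ 0) (h : xG Q.K F r c ∈ M) : Full Q M r := by
  have hadd : ∀ a b, xG Q.K F r a ∈ M → xG Q.K F r b ∈ M → xG Q.K F r (a + b) ∈ M := by
    intro a b ha hb
    rw [show xG Q.K F r (a + b) = xG Q.K F r a * xG Q.K F r b from
      Subtype.ext (Q.K.xU_add F r a b).symm]
    exact mul_mem ha hb
  have hall := span_all hζ he (P := fun x => xG Q.K F r (x * c) ∈ M)
    (by
      rw [zero_mul, show xG Q.K F r (0 : F) = 1 from Subtype.ext (Q.K.xU_zero F r)]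
      exact one_mem M)
    (fun a b ha hb => by rw [add_mul]; exact hadd _ _ ha hb)
    (fun a ha => by
      rw [neg_mul, ← neg_one_mul]; exact (mem_iff_sign Q M hr (Or.inr rfl) _).2 ha)
    (fun j => by
      have h1 : tor Q ζ k ^ j ∈ M := zpow_mem hh j
      have h2 : tor Q ζ k ^ j * xG Q.K F r c * (tor Q ζ k ^ j)⁻¹
          = xG Q.K F r ((((ζ ^ ev D k r) ^ j : Fˣ) : F) * c) := by
        have e : tor Q ζ k ^ j = tor Q ζ (k.map (· * j)) := by
          rw [tor, tor, ← map_zpow]
          congr 1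
          funext m
          rw [Pi.pow_apply, ← zpow_mul]
          congr 1
          rcases lt_or_ge m.val k.length with hm | hm
          · simp [List.getD_eq_getElem?_getD, List.getElem?_map, List.getElem?_eq_getElem hm]
          · simp [List.getD_eq_getElem?_getD, List.getElem?_eq_none hm,
              List.getElem?_map]
        rw [e, tor_conj Q ζ _ hr, ← zpow_mul]
        congr 4
        simp only [ev, Finset.sum_mul]
        refine Finset.sum_congr rfl fun m _ => ?_
        rcases lt_or_ge m.val k.length with hm | hm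
        · simp [List.getD_eq_getElem?_getD, List.getElem?_map, List.getElem?_eq_getElem hm]; ring
        · simp [List.getD_eq_getElem?_getD, List.getElem?_eq_none hm, List.getElem?_map]
      rw [← h2]
      exact mul_mem (mul_mem h1 h) (inv_mem h1))
  intro t
  have := hall (t / c)
  rwa [div_mul_cancel₀ t hc] at this

theorem pow_card_torus [Fintype F] (ζ : Fˣ) (k : List ℤ) :
    tor Q ζ k ^ Fintype.card F = tor Q ζ k := by
  rw [tor, ← map_pow]
  congr 1
  funext m
  exact Units.ext (by simp [FiniteField.pow_card])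

/-- From the product of a torus element and a root element it commutes with, both. -/
theorem split_gen [Fintype F] {ζ : Fˣ} {k : List ℤ} {r : ℕ} (hr : r < D.nroots)
    (he : ev D k r = 0) (h : tor Q ζ k * xG Q.K F r 1 ∈ M) :
    tor Q ζ k ∈ M ∧ xG Q.K F r 1 ∈ M := by
  have hcomm : Commute (tor Q ζ k) (xG Q.K F r 1) := by
    have e := tor_conj Q ζ k hr (1 : F)
    rw [he, zpow_zero, Units.val_one, one_mul, mul_inv_eq_iff_eq_mul] at e
    exact e
  have hx : ∀ n : ℕ, xG Q.K F r 1 ^ n = xG Q.K F r (n : F) := by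
    intro n
    induction n with
    | zero => simp only [pow_zero, Nat.cast_zero]; exact Subtype.ext (Q.K.xU_zero F r).symm
    | succ n ih =>
        rw [pow_succ, ih, Nat.cast_succ]
        exact Subtype.ext (Q.K.xU_add F r _ _)
  have h1 := pow_mem h (Fintype.card F)
  rw [hcomm.mul_pow, pow_card_torus, hx, FiniteField.cast_card_eq_zero,
    show xG Q.K F r (0 : F) = 1 from Subtype.ext (Q.K.xU_zero F r), mul_one] at h1
  exact ⟨h1, (Subgroup.mul_mem_cancel_left M h1).1 h⟩

/-- The checks for the first criterion. -/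
def critA (C : Chevalley.Cert D) (h r j : ℕ) (k : List ℤ) (l : List (ℕ × ℕ)) : Bool :=
  decide (r < D.nroots) && (ev D k r == 0) && okExp (ev D k ((coxMap C)^[j] r)) &&
    covers D (orbit C h r) l

/-- The checks for the second criterion. -/
def critB (C : Chevalley.Cert D) (h r L j : ℕ) (k : List ℤ) (l : List (ℕ × ℕ)) : Bool :=
  decide (r < D.nroots) && decide (L < D.nroots) && (ev D k r == 0) &&
    (ev D k L == 1 || ev D k L == -1) &&
    (ev D k (coxMap C L) == 1 || ev D k (coxMap C L) == -1) &&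
    okExp (ev D k ((coxMap C)^[j] r)) &&
    covers D (orbit C h r ++ orbit C h (coxMap C L)) l

theorem twoGen_A [Finite F] {h r j : ℕ} {k : List ℤ} {l : List (ℕ × ℕ)}
    (hc : critA Q.K h r j k l = true) :
    ∃ a b : ↥(D.group F), Subgroup.closure ({a, b} : Set ↥(D.group F)) = ⊤ := by
  haveI : Fintype F := Fintype.ofFinite F
  simp only [critA, Bool.and_eq_true, beq_iff_eq, decide_eq_true_eq] at hc
  obtain ⟨⟨⟨hr, h0⟩, hj⟩, hcov⟩ := hc
  obtain ⟨ζ, hζ⟩ := IsCyclic.exists_generator (α := Fˣ)
  refine ⟨tor Q ζ k * xG Q.K F r 1, cox Q, ?_⟩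
  set M := Subgroup.closure ({tor Q ζ k * xG Q.K F r 1, cox Q} : Set ↥(D.group F))
  obtain ⟨hh, hx⟩ := split_gen Q M (ζ := ζ) hr h0 (Subgroup.subset_closure (by simp))
  have hn : cox Q ∈ M := Subgroup.subset_closure (by simp)
  obtain ⟨hlt, hmove⟩ := orbit_mem Q M hn hr j
  have hfull := full_of_torus Q M hζ hh hlt hj one_ne_zero (hmove 1 hx)
  have hback : Full Q M r := fun t => orbit_back Q M hn j hr t (hfull t)
  exact top_of_covers Q M (full_orbit Q M hn hr hback) hcov

end Cfsg.Agent.H37.TwoGen
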