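import Cfsg.Agent.H37.TwoGen.Twisted
import Cfsg.Agent.H37.Twist.D4Perfect
import Cfsg.Agent.H37.Twist.ReeCommon

/-!
`³D₄(q)` is generated by two elements.
-/
set_option autoImplicit false
set_option maxRecDepth 100000

namespace Cfsg.Agent.H37.TwoGen.D4

open Cfsg.Lie Cfsg.Agent.H37.RootSys Cfsg.Agent.H37.NormalForm Cfsg.Agent.H37.Twist
open Cfsg.Agent.H37.Twist.D4

variable {K : Type*} [Field K] [Fintype K] {φ : K →+* K} {q : ℕ}

/-- The word of the folded Coxeter element. -/
def cw : List ℕ := [0, 2, 3, 1]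

/-- Its action. -/
def cpi (r : ℕ) : ℕ := Weyl.certD4.act cw r

theorem cpi_lt : ∀ r, r < chevD4.nroots → cpi r < chevD4.nroots := by
  intro r hr
  exact (by decide +kernel : ∀ r : Fin 24, cpi r.val < 24) ⟨r, hr⟩

theorem words_eq : H37.Fold.dataD4.word (0 : Fin 2).val ++ H37.Fold.dataD4.word (1 : Fin 2).val
    = cw := by decide +kernel

theorem chars_ok :
    [chevD4.cartan 0 12, chevD4.cartan 2 12, chevD4.cartan 3 12] = [0, 0, 2] ∧
    [chevD4.cartan 0 8, chevD4.cartan 2 8, chevD4.cartan 3 8] = [1, 1, -1] ∧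
    [chevD4.cartan 0 0, chevD4.cartan 2 0, chevD4.cartan 3 0] = [0, 0, 0] ∧
    [chevD4.cartan 0 9, chevD4.cartan 2 9, chevD4.cartan 3 9] = [1, 1, 1] ∧
    cpi 8 = 12 ∧ cpi 0 = 9 ∧ tables.rh 9 = 9 ∧ 9 < chevD4.nroots ∧ tables.rh 0 = 0 ∧
    Sym.dataD4a.sg 9 = 1 ∧ Sym.dataD4a.sg 0 = 1 := by decide +kernel

/-- The targets. -/
def targets : List (List ℕ × Bool) :=
  [([18, 13, 12], false), ([5, 10, 11], false), ([14], true), ([9], true)]

theorem targets_ok : ∀ x ∈ targets, ∃ k : Fin 6, ∀ r ∈ x.1,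
    r ∈ (if x.2 then [9] else orbL 0).map cpi^[k.val] := by decide +kernel

theorem two_gen (hφ : ∀ t, φ t = t ^ q) (hK : Fintype.card K = q ^ 3) :
    ∃ a b : ↥(twistedD4 K q), Subgroup.closure ({a, b} : Set ↥(twistedD4 K q)) = ⊤ := by
  classical
  set Md := model hφ hK
  have h2 : 2 ≤ q := Cfsg.Agent.H37.Twist.D4.two_le hK
  obtain ⟨g, hg⟩ := IsCyclic.exists_generator (α := Kˣ)
  have hord : orderOf g = q ^ 3 - 1 := by
    rw [orderOf_eq_card_of_forall_mem_zpowers hg, Nat.card_eq_fintype_card, Fintype.card_units, hK]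
  have hqq : ∀ t : Kˣ, ((t ^ q) ^ q) ^ q = t := fun t => units_pow_three hK t
  set γ := (g ^ q) ^ q with hγ
  have hγgen : ∀ x : Kˣ, x ∈ Subgroup.zpowers γ := fun x => by
    obtain ⟨i, rfl⟩ := Subgroup.mem_zpowers_iff.1 (hg x)
    refine zpow_mem (?_ : g ∈ Subgroup.zpowers γ) i
    exact ⟨q, show γ ^ (q : ℤ) = g by rw [zpow_natCast, hγ, hqq]⟩
  obtain ⟨e12, e8, e0, e9, hp8, hp0, hr9, h9, hr0, hs9, hs0⟩ := chars_ok
  simp only [List.cons.injEq, and_true] at e12 e8 e0 e9
  set c : Fin chevD4.rank → Kˣ := ![g, 1, g ^ q, (g ^ q) ^ q] with hc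
  have hfix : (endo φ).σ (tG (QD K) c) = tG (QD K) c := by
    rw [(endo φ).σ_tG (noSign hφ)]
    congr 1
    have h1 : (1 : Kˣ) ^ q = 1 := one_pow q
    have := ((fixParam (φ := φ) hK).symm (g, ⟨1, h1⟩)).2
    exact this
  have hch : ∀ r, chT c r =
      g ^ chevD4.cartan 0 r * (g ^ q) ^ chevD4.cartan 2 r * γ ^ chevD4.cartan 3 r := by
    intro r
    show ∏ m : Fin 4, c m ^ chevD4.cartan m.val r = _
    simp [Fin.prod_univ_four, hc, hγ]
  have h12 : chT c 12 = γ ^ (2 : ℤ) := by
    rw [hch, e12.1, e12.2.1, e12.2.2, zpow_zero, zpow_zero, one_mul, one_mul]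
  have hbig : 8 ≤ q ^ 3 := by
    calc 8 = 2 ^ 3 := rfl
      _ ≤ q ^ 3 := Nat.pow_le_pow_left h2 3
  have hne : ∀ n : ℕ, 0 < n → n < q ^ 3 - 1 → g ^ n ≠ 1 := fun n h0 hn h => by
    have := orderOf_le_of_pow_eq_one h0 h
    omega
  have hγ2 : γ ^ (2 : ℤ) ≠ 1 := fun h => by
    rw [zpow_ofNat] at h
    have h' : (((γ ^ 2) ^ q) : Kˣ) = 1 := by rw [h, one_pow]
    rw [← pow_mul, mul_comm, pow_mul, hγ, hqq] at h'
    exact hne 2 two_pos (by omega) h'
  set a := (fold φ).gens (0 : Fin 2) * (fold φ).gens (1 : Fin 2) with ha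
  have hπ : ∀ r (hr : r < chevD4.nroots),
      ((QD K).X.good.hom ((fold φ).ι a) ⟨r, hr⟩).val = cpi r := by
    intro r hr
    rw [ha, map_mul (fold φ).ι, ι_gen φ (0 : Fin 2), ι_gen φ (1 : Fin 2), ← Weyl.wOf_append,
      words_eq, (QD K).X.good.hom_wOf_val (show ∀ i ∈ cw, i < 4 by decide)]
    rfl
  let S : Setup (endo φ) :=
    { m := Md.rep ((fold φ).ι a)
      π := cpi
      lt := cpi_lt
      move := fun r hr t => by
        obtain ⟨t', e⟩ := Md.rep_move a hr t
        exact ⟨t', by rw [e, hπ]⟩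
      fixed_m := Md.TG_fixed (Md.rep_mem a)
      mH := fun h hh => by
        obtain ⟨k, hk, e⟩ := Md.rep_spec ((fold φ).ι a)
        rw [e, show ∀ y : ↥(chevD4.group K), k * y * h * (k * y)⁻¹ = k * (y * h * y⁻¹) * k⁻¹ from
          fun y => by group]
        exact mul_mem (mul_mem hk ((QD K).sys.rep_conj_H _ hh)) (inv_mem hk)
      c := c
      fixed_c := hfix
      O := orb φ (0 : Fin 2)
      r0 := 12
      r0_mem := show (12 : ℕ) ∈ orbL 0 by decide
      det := fun t ht h0 r hr => by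
        have hf : ∀ s ∈ [18, 13, 12], ∀ x : K, x = 0 → (endo φ).f s x = 0 := fun s _ x hx => by
          show (Sym.dataD4a.sg s : K) * φ x = 0
          rw [hx, map_zero, mul_zero]
        have m12 : (12 : ℕ) ∈ orbL 0 := by decide
        have m18 : (18 : ℕ) ∈ orbL 0 := by decide
        have e1 := ht 12 m12
        rw [show (endo φ).s.T.rh 12 = 18 from rh_ok.2.2.1, hf 12 (by simp) _ h0] at e1
        have e2 := ht 18 m18
        rw [show (endo φ).s.T.rh 18 = 13 from rh_ok.1, hf 18 (by simp) _ e1] at e2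
        have hr' : r ∈ orbL 0 := hr
        simp only [orbL, List.mem_cons, List.not_mem_nil, or_false] at hr'
        rcases hr' with rfl | rfl | rfl
        · exact h0
        · exact e2
        · exact e1
      one := fun r hr => by
        have hr' : r ∈ [18, 14, 13, 12, 5, 9, 10, 11] := by
          have hr'' : r ∈ orbL 0 := hr
          simp only [orbL, List.mem_cons, List.not_mem_nil, or_false] at hr''
          rcases hr'' with rfl | rfl | rfl <;> simp
        show (Sym.dataD4a.sg r : K) * φ 1 = 1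
        rw [sg_one r hr', map_one]; simp
      gen := γ
      gen_gen := hγgen
      char_r0 := h12
      char_ne := h12 ▸ hγ2
      pre := 8
      pre_lt := show 8 < chevD4.nroots by decide +kernel
      pre_eq := hp8
      pre_ne := by
        rw [hch, e8.1, e8.2.1, e8.2.2, zpow_one, zpow_one, zpow_neg_one, ne_eq, mul_inv_eq_one]
        intro h
        rw [hγ, ← pow_mul, ← pow_succ'] at h
        have hlt : q + 1 < q * q := by nlinarith
        have hle : q * q < q ^ 3 := by
          rw [← pow_two]; exact Nat.pow_lt_pow_right (by omega) (by omega)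
        have e : g ^ (q * q - (q + 1)) = 1 := by
          rw [pow_sub g hlt.le, ← h, mul_inv_cancel]
        exact hne _ (by omega) (by omega) e
      s := 0
      s_lt := show 0 < chevD4.nroots by decide +kernel
      s_char := by rw [hch, e0.1, e0.2.1, e0.2.2, zpow_zero, zpow_zero, zpow_zero, mul_one, mul_one]
      s_fixed := by
        rw [(endo φ).σ_x 0 (by decide +kernel)]
        show xG (QD K).K K (tables.rh 0) ((Sym.dataD4a.sg 0 : K) * φ 1) = _
        rw [hr0, hs0, map_one]; simp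
      j := 1
      j_gen := fun t ht htf u hu huf => by
        simp only [Function.iterate_one, hp0] at htf huf ⊢
        have hpow : ∀ v : K, (endo φ).σ (xG (QD K).K K 9 v) = xG (QD K).K K 9 v → v ^ q = v := by
          intro v hv
          rw [(endo φ).σ_x 9 h9] at hv
          change xG (QD K).K K (tables.rh 9) ((Sym.dataD4a.sg 9 : K) * φ v) = _ at hv
          rw [hr9, hs9, hφ, Int.cast_one, one_mul] at hv
          exact xG_inj (QD K) h9 hv
        obtain ⟨k, hk⟩ : ∃ k : ℤ, (g ^ (1 + q + q * q : ℤ)) ^ k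
            = Units.mk0 u hu * (Units.mk0 t ht)⁻¹ := by
          set w := Units.mk0 u hu * (Units.mk0 t ht)⁻¹ with hw
          have hwq : w ^ q = w := by
            rw [hw, mul_pow, inv_pow]
            congr 1
            · exact Units.ext (by simpa using hpow u huf)
            · congr 1; exact Units.ext (by simpa using hpow t htf)
          obtain ⟨i, hi⟩ := Subgroup.mem_zpowers_iff.1 (hg w)
          have h1 : g ^ (i * ((q : ℤ) - 1)) = 1 := by
            rw [mul_sub, mul_one, zpow_sub, zpow_mul, hi, zpow_natCast, hwq, mul_inv_cancel]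
          have h2' := orderOf_dvd_iff_zpow_eq_one.2 h1
          rw [hord, Nat.cast_sub (by omega : 1 ≤ q ^ 3), Nat.cast_pow, Nat.cast_one,
            show (q : ℤ) ^ 3 - 1 = (1 + q + q * q) * ((q : ℤ) - 1) by ring] at h2'
          have hq1 : (q : ℤ) - 1 ≠ 0 := by omega
          obtain ⟨k, rfl⟩ := Int.dvd_of_mul_dvd_mul_right hq1 h2'
          exact ⟨k, by rw [← zpow_mul, hi]⟩
        refine ⟨k, ?_⟩
        rw [hch, e9.1, e9.2.1, e9.2.2, zpow_one, zpow_one, zpow_one,
          show g * g ^ q * γ = g ^ (1 + q + q * q : ℤ) by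
            rw [zpow_add, zpow_add, zpow_one, zpow_natCast, ← Nat.cast_mul, zpow_natCast, hγ,
              ← pow_mul], hk]
        simp only [Units.val_mul, Units.val_inv_eq_inv_val, Units.val_mk0]
        field_simp }
  obtain ⟨x, hx, y, hy, hS⟩ := S.two_gen
  refine transfer Md hx hy fun M hxM hyM => ?_
  obtain ⟨hL, hs⟩ := hS M hxM hyM
  have hclass : ∀ T ∈ targets, ClassFull (endo φ) M {r | r ∈ T.1} := by
    intro T hT
    obtain ⟨k, hk⟩ := targets_ok T hT
    cases hb : T.2 with
    | false =>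
        rw [hb] at hk
        refine ClassFull.mono ?_ (hL k.val)
        intro r hr
        obtain ⟨s, hs', e⟩ := List.mem_map.1 (hk r hr)
        exact ⟨s, hs', e⟩
    | true =>
        rw [hb] at hk
        refine ClassFull.mono ?_ (hs k.val)
        intro r hr
        obtain ⟨s, hs', e⟩ := List.mem_map.1 (hk r hr)
        simp only [if_true, List.mem_cons, List.not_mem_nil, or_false] at hs'
        refine ⟨s, ?_, e⟩
        show s = cpi^[1] 0
        rw [hs', Function.iterate_one, hp0]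
  intro g hg
  have hg' : (g : GL chevD4.Idx K) ∈ twistedD4 K q := by
    have := Md.fixed_eq ▸ hg
    exact this
  refine (Subgroup.closure_le _).2 ?_ (le_closure_words (Q := QD K) hg')
  rintro x ⟨w, hw, rfl⟩
  have hfix := le_fixed hφ hK _ (wG_mem (Q := QD K) hw)
  obtain ⟨T, hT, hroots⟩ : ∃ T ∈ targets, w.map Prod.fst = T.1 := by
    rcases hw with ⟨t, ht, r, hr, rfl⟩ | ⟨t, rs, hrs, rfl⟩
    · simp only [List.mem_cons, List.not_mem_nil, or_false] at hr
      rcases hr with rfl | rfl <;> simp [targets, d4p2, d4m2]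
    · simp only [List.mem_cons, List.not_mem_nil, or_false] at hrs
      rcases hrs with rfl | rfl <;> simp [targets, d4p1, d4p3, d4p4, d4m1, d4m3, d4m4]
  refine hclass T hT _ (Subgroup.list_prod_mem _ fun y hy => ?_) hfix
  obtain ⟨p, hp, rfl⟩ := List.mem_map.1 hy
  exact x_mem_XS (S := {r | r ∈ T.1}) (show p.1 ∈ T.1 from hroots ▸ List.mem_map_of_mem hp) p.2

end Cfsg.Agent.H37.TwoGen.D4
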