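import Cfsg.Agent.H37.TwoGen.Twisted
import Cfsg.Agent.H37.Twist.E6Perfect
import Cfsg.Agent.H37.Twist.ReeCommon

/-!
`²E₆(q)` is generated by two elements.
-/
set_option autoImplicit false
set_option maxRecDepth 100000

namespace Cfsg.Agent.H37.TwoGen.E6

open Cfsg.Lie Cfsg.Agent.H37.RootSys Cfsg.Agent.H37.NormalForm Cfsg.Agent.H37.Twist
open Cfsg.Agent.H37.Twist.E6

variable {K : Type*} [Field K] [Fintype K] {φ : K →+* K} {q : ℕ}

/-- The word of the folded Coxeter element. -/
def cw : List ℕ := [0, 5, 2, 4, 3, 1]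

/-- Its action. -/
def cpi (r : ℕ) : ℕ := Weyl.certE6.act cw r

theorem cpi_lt : ∀ r, r < chevE6.nroots → cpi r < chevE6.nroots := by
  intro r hr
  exact (by decide +kernel : ∀ r : Fin 72, cpi r.val < 72) ⟨r, hr⟩

theorem words_eq : H37.Fold.dataE6.word (0 : Fin 4).val ++ H37.Fold.dataE6.word (1 : Fin 4).val ++
    H37.Fold.dataE6.word (2 : Fin 4).val ++ H37.Fold.dataE6.word (3 : Fin 4).val = cw := by
  decide +kernel

theorem chars_ok : [chevE6.cartan 0 56, chevE6.cartan 5 56] = [2, 0] ∧
    [chevE6.cartan 0 10, chevE6.cartan 5 10] = [-1, 0] ∧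
    [chevE6.cartan 0 25, chevE6.cartan 5 25] = [0, 0] ∧
    [chevE6.cartan 0 63, chevE6.cartan 5 63] = [1, 1] ∧ cpi 10 = 56 ∧ cpi 25 = 63 ∧
    tables.rh 63 = 63 ∧ 63 < chevE6.nroots ∧ tables.rh 25 = 25 ∧ Sym.dataE6.sg 63 = 1 ∧
    Sym.dataE6.sg 25 = 1 := by decide +kernel

/-- The targets: positions in the two orbits. -/
def targets : List (List ℕ × Bool) :=
  [([56, 36], false), ([15, 35], false), ([42, 37], false), ([29, 34], false),
    ([39], true), ([32], true), ([46], true), ([25], true)]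

theorem targets_ok : ∀ x ∈ targets, ∃ k : Fin 12, ∀ r ∈ x.1,
    r ∈ (if x.2 then [63] else orbL 0).map cpi^[k.val] := by decide +kernel

theorem two_gen (hφ : ∀ t, φ t = t ^ q) (hK : Fintype.card K = q ^ 2) :
    ∃ a b : ↥(twistedE6 K q), Subgroup.closure ({a, b} : Set ↥(twistedE6 K q)) = ⊤ := by
  classical
  set Md := model hφ hK
  obtain ⟨g, hg⟩ := IsCyclic.exists_generator (α := Kˣ)
  obtain ⟨e56, e10, e25, e63, hp10, hp25, hr63, h63, hr25, hs63, hs25⟩ := chars_ok
  simp only [List.cons.injEq, and_true] at e56 e10 e25 e63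
  set c : Fin chevE6.rank → Kˣ := ![g, 1, 1, 1, 1, g ^ q] with hc
  have hfix : (endo φ).σ (tG (QE K) c) = tG (QE K) c := by
    rw [(endo φ).σ_tG (noSign hφ)]
    congr 1
    have h1 : (1 : Kˣ) ^ q = 1 := one_pow q
    have := ((fixParam (φ := φ) hK).symm ((g, 1), (⟨1, h1⟩, ⟨1, h1⟩))).2
    have hg1 : (![g, 1, 1, 1, 1, g ^ q] : Fin 6 → Kˣ) = ![g, 1, 1, 1, (1 : Kˣ) ^ q, g ^ q] := by
      rw [one_pow]
    rw [hc, hg1]
    exact this
  have hch : ∀ r, chT c r = g ^ chevE6.cartan 0 r * (g ^ q) ^ chevE6.cartan 5 r := by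
    intro r
    show ∏ m : Fin 6, c m ^ chevE6.cartan m.val r = _
    simp [Fin.prod_univ_six, hc]
  have h56 : chT c 56 = g ^ (2 : ℤ) := by rw [hch, e56.1, e56.2, zpow_zero, mul_one]
  obtain ⟨g', hg'⟩ := exists_sq_ne hK
  have hg2 : g ^ (2 : ℤ) ≠ 1 := fun h => by
    obtain ⟨i, rfl⟩ := Subgroup.mem_zpowers_iff.1 (hg g')
    apply hg'
    rw [← zpow_natCast, ← zpow_mul, mul_comm, zpow_mul]
    simp only [Nat.cast_ofNat, h, one_zpow]
  set a := (fold φ).gens (0 : Fin 4) * (fold φ).gens (1 : Fin 4) * (fold φ).gens (2 : Fin 4) *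
    (fold φ).gens (3 : Fin 4) with ha
  have hπ : ∀ r (hr : r < chevE6.nroots), ((QE K).X.good.hom ((fold φ).ι a) ⟨r, hr⟩).val = cpi r := by
    intro r hr
    rw [ha, map_mul (fold φ).ι, map_mul (fold φ).ι, map_mul (fold φ).ι, ι_gen φ (0 : Fin 4),
      ι_gen φ (1 : Fin 4), ι_gen φ (2 : Fin 4), ι_gen φ (3 : Fin 4), ← Weyl.wOf_append,
      ← Weyl.wOf_append, ← Weyl.wOf_append, words_eq,
      (QE K).X.good.hom_wOf_val (show ∀ i ∈ cw, i < 6 by decide)]
    rfl
  let S : Setup (endo φ) :=
    { m := Md.rep ((fold φ).ι a)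
      π := cpi
      lt := cpi_lt
      move := fun r hr t => by
        obtain ⟨t', e⟩ := Md.rep_move a hr t
        exact ⟨t', by rw [e, hπ]⟩
      fixed_m := Md.TG_fixed (Md.rep_mem a)
      mH := fun h hh => by
        obtain ⟨k, hk, e⟩ := Md.rep_spec ((fold φ).ι a)
        rw [e, show ∀ y : ↥(chevE6.group K), k * y * h * (k * y)⁻¹ = k * (y * h * y⁻¹) * k⁻¹ from
          fun y => by group]
        exact mul_mem (mul_mem hk ((QE K).sys.rep_conj_H _ hh)) (inv_mem hk)
      c := c
      fixed_c := hfix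
      O := orb φ (0 : Fin 4)
      r0 := 56
      r0_mem := show (56 : ℕ) ∈ orbL 0 by decide
      det := fun t ht h0 r hr => by
        have hr' : r ∈ orbL 0 := hr
        simp only [orbL, List.mem_cons, List.not_mem_nil, or_false] at hr'
        rcases hr' with rfl | rfl
        · have e := ht 56 (show (56 : ℕ) ∈ orbL 0 by decide)
          rw [show (endo φ).s.T.rh 56 = 36 from rh_ok.1, h0] at e
          rw [e]
          show (Sym.dataE6.sg 56 : K) * φ 0 = 0
          rw [map_zero, mul_zero]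
        · exact h0
      one := fun r hr => by
        have hr' : r ∈ [56, 46, 42, 39, 37, 36, 15, 25, 29, 32, 34, 35] := by
          have hr'' : r ∈ orbL 0 := hr
          simp only [orbL, List.mem_cons, List.not_mem_nil, or_false] at hr''
          rcases hr'' with rfl | rfl <;> simp
        show (Sym.dataE6.sg r : K) * φ 1 = 1
        rw [sg_one r hr', map_one]; simp
      gen := g
      gen_gen := hg
      char_r0 := h56
      char_ne := h56 ▸ hg2
      pre := 10
      pre_lt := show 10 < chevE6.nroots by decide +kernel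
      pre_eq := hp10
      pre_ne := by
        rw [hch, e10.1, e10.2, zpow_zero, mul_one, zpow_neg_one]
        exact fun h => hg2 (by simp [inv_eq_one.1 h])
      s := 25
      s_lt := show 25 < chevE6.nroots by decide +kernel
      s_char := by rw [hch, e25.1, e25.2, zpow_zero, zpow_zero, mul_one]
      s_fixed := by
        rw [(endo φ).σ_x 25 (by decide +kernel)]
        show xG (QE K).K K (tables.rh 25) ((Sym.dataE6.sg 25 : K) * φ 1) = _
        rw [hr25, hs25, map_one]; simp
      j := 1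
      j_gen := fun t ht htf u hu huf => by
        simp only [Function.iterate_one, hp25] at htf huf ⊢
        have hpow : ∀ v : K, (endo φ).σ (xG (QE K).K K 63 v) = xG (QE K).K K 63 v → v ^ q = v := by
          intro v hv
          rw [(endo φ).σ_x 63 h63] at hv
          change xG (QE K).K K (tables.rh 63) ((Sym.dataE6.sg 63 : K) * φ v) = _ at hv
          rw [hr63, hs63, hφ, Int.cast_one, one_mul] at hv
          exact xG_inj (QE K) h63 hv
        obtain ⟨k, hk⟩ : ∃ k : ℤ, (g ^ (1 + q : ℤ)) ^ k = Units.mk0 u hu * (Units.mk0 t ht)⁻¹ := by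
          set w := Units.mk0 u hu * (Units.mk0 t ht)⁻¹ with hw
          have hwq : w ^ q = w := by
            rw [hw, mul_pow, inv_pow]
            congr 1
            · exact Units.ext (by simpa using hpow u huf)
            · congr 1; exact Units.ext (by simpa using hpow t htf)
          obtain ⟨i, hi⟩ := Subgroup.mem_zpowers_iff.1 (hg w)
          have h1 : g ^ (i * ((q : ℤ) - 1)) = 1 := by
            rw [mul_sub, mul_one, zpow_sub, zpow_mul, hi, zpow_natCast, hwq, mul_inv_cancel]
          have hord : (orderOf g : ℤ) = (q : ℤ) ^ 2 - 1 := by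
            rw [orderOf_eq_card_of_forall_mem_zpowers hg, Nat.card_eq_fintype_card,
              Fintype.card_units, hK, Nat.cast_sub (Nat.one_le_pow _ _ (by have := two_le hK; omega))]
            push_cast; ring
          have h2 := orderOf_dvd_iff_zpow_eq_one.2 h1
          rw [hord, show (q : ℤ) ^ 2 - 1 = (1 + q) * ((q : ℤ) - 1) by ring] at h2
          have hq1 : (q : ℤ) - 1 ≠ 0 := by have := two_le hK; omega
          obtain ⟨k, rfl⟩ := Int.dvd_of_mul_dvd_mul_right hq1 h2
          exact ⟨k, by rw [← zpow_mul, hi]⟩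
        refine ⟨k, ?_⟩
        rw [hch, e63.1, e63.2, zpow_one, zpow_one,
          show g * g ^ q = g ^ (1 + q : ℤ) by rw [zpow_add, zpow_one, zpow_natCast], hk]
        simp only [Units.val_mul, Units.val_inv_eq_inv_val, Units.val_mk0]
        field_simp }
  obtain ⟨x, hx, y, hy, hS⟩ := S.two_gen
  refine transfer Md hx hy fun M hxM hyM => ?_
  obtain ⟨hL, hs⟩ := hS M hxM hyM
  have hclass : ∀ T ∈ targets, ClassFull (endo φ) M {r | r ∈ T.1} := by
    intro T hT
    obtain ⟨k, hk⟩ := targets_ok T hT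
    cases hb : T.2 with
    | false =>
        rw [hb] at hk
        refine ClassFull.mono ?_ (hL k.val)
        intro r hr
        obtain ⟨s, hs', e⟩ := List.mem_map.1 (hk r hr)
        exact ⟨s, hs', e⟩
    | true =>
        rw [hb] at hk
        refine ClassFull.mono ?_ (hs k.val)
        intro r hr
        obtain ⟨s, hs', e⟩ := List.mem_map.1 (hk r hr)
        simp only [if_true, List.mem_cons, List.not_mem_nil, or_false] at hs'
        refine ⟨s, ?_, e⟩
        show s = cpi^[1] 25
        rw [hs', Function.iterate_one, hp25]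
  intro g hg
  have hg' : (g : GL chevE6.Idx K) ∈ twistedE6 K q := by
    have := Md.fixed_eq ▸ hg
    exact this
  refine (Subgroup.closure_le _).2 ?_ (le_closure_words (Q := QE K) hg')
  rintro x ⟨w, hw, rfl⟩
  have hfix := le_fixed hφ hK _ (wG_mem (Q := QE K) hw)
  obtain ⟨T, hT, hroots⟩ : ∃ T ∈ targets, w.map Prod.fst = T.1 := by
    rcases hw with ⟨t, ht, r, hr, rfl⟩ | ⟨t, rs, hrs, rfl⟩
    · simp only [List.mem_cons, List.not_mem_nil, or_false] at hr
      rcases hr with rfl | rfl | rfl | rfl <;> simp [targets, e6p2, e6m2, e6p4, e6m4]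
    · simp only [List.mem_cons, List.not_mem_nil, or_false] at hrs
      rcases hrs with rfl | rfl | rfl | rfl <;>
        simp [targets, e6p1, e6p6, e6m1, e6m6, e6p3, e6p5, e6m3, e6m5]
  refine hclass T hT _ (Subgroup.list_prod_mem _ fun y hy => ?_) hfix
  obtain ⟨p, hp, rfl⟩ := List.mem_map.1 hy
  exact x_mem_XS (S := {r | r ∈ T.1}) (show p.1 ∈ T.1 from hroots ▸ List.mem_map_of_mem hp) p.2

end Cfsg.Agent.H37.TwoGen.E6
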