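import Cfsg.Agent.H37.TwoGen.Twisted
import Cfsg.Agent.H37.Twist.F4Perfect

/-!
`²F₄(q)`, `q > 2`, is generated by two elements.
-/
set_option autoImplicit false
set_option maxRecDepth 100000

namespace Cfsg.Agent.H37.TwoGen.F4

open Cfsg.Lie Cfsg.Agent.H37.RootSys Cfsg.Agent.H37.NormalForm Cfsg.Agent.H37.Twist
open Cfsg.Agent.H37.Twist.F4

variable {K : Type*} [Field K] [Fintype K] [CharP K 2] {φ : K →+* K} {m : ℕ}

/-- The word of the folded Coxeter element. -/
def cw : List ℕ := [0, 3, 1, 2, 1, 2]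

/-- Its action. -/
def cpi (r : ℕ) : ℕ := Weyl.certF4.act cw r

theorem cpi_lt : ∀ r, r < chevF4.nroots → cpi r < chevF4.nroots := by
  intro r hr
  exact (by decide +kernel : ∀ r : Fin 48, cpi r.val < 48) ⟨r, hr⟩

theorem words_eq : word (0 : Fin 2) ++ word (1 : Fin 2) = cw := by decide +kernel

theorem chars_ok :
    [chevF4.cartan 0 24, chevF4.cartan 1 24, chevF4.cartan 2 24, chevF4.cartan 3 24] = [0, 0, -1, 2] ∧
    [chevF4.cartan 0 33, chevF4.cartan 1 33, chevF4.cartan 2 33, chevF4.cartan 3 33] = [2, -1, 0, 0] ∧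
    [chevF4.cartan 0 25, chevF4.cartan 1 25, chevF4.cartan 2 25, chevF4.cartan 3 25] = [0, -2, 2, -1] ∧
    [chevF4.cartan 0 28 + 2 * chevF4.cartan 1 28, 2 * chevF4.cartan 2 28 + chevF4.cartan 3 28] = [-1, 1] ∧
    [chevF4.cartan 0 31 + 2 * chevF4.cartan 1 31, 2 * chevF4.cartan 2 31 + chevF4.cartan 3 31] = [2, -1] ∧
    [chevF4.cartan 0 43 + 2 * chevF4.cartan 1 43, 2 * chevF4.cartan 2 43 + chevF4.cartan 3 43] = [-2, 2] ∧
    cpi 31 = 25 ∧ cpi 24 = 43 := by decide +kernel

theorem square_ok : sameWordP 2 chevF4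
    [(25, 1), (27, 1), (28, 0), (30, 1), (25, 1), (27, 1), (28, 0), (30, 1)]
    [(25, 0), (27, 0), (28, 1), (30, 1)] = true := by decide +kernel

theorem central_ok : ∀ r ∈ ([25, 27, 28, 30] : List ℕ), ∀ s ∈ ([28, 30] : List ℕ), s ≠ r →
    s ≠ chevF4.neg r ∧ ∀ x ∈ chevF4.commTerms r s, x.2.1 % 2 = 0 := by decide +kernel

omit [Fintype K] in
theorem central (T U c d c' d' : K) :
    Commute (four pc T U c d) (xe pc.ab c' * xe pc.aab d') := by
  have h : ∀ r ∈ ([25, 27, 28, 30] : List ℕ), ∀ s ∈ ([28, 30] : List ℕ), ∀ t u : K,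
      Commute (xe r t) (xe s u) := by
    intro r hr s hs t u
    have hr' : r < chevF4.nroots :=
      (by decide +kernel : ∀ r ∈ ([25, 27, 28, 30] : List ℕ), r < chevF4.nroots) r hr
    have hs' : s < chevF4.nroots :=
      (by decide +kernel : ∀ r ∈ ([28, 30] : List ℕ), r < chevF4.nroots) s hs
    rcases eq_or_ne s r with rfl | hne
    · show xe s t * xe s u = xe s u * xe s t
      rw [← xe_add hs', ← xe_add hs', add_comm]
    · obtain ⟨h1, h2⟩ := central_ok r hr s hs hne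
      exact commute_coef hr' hs' hne h1 (fun x hx => by
        rw [CharP.intCast_eq_zero_iff K 2]
        exact Int.dvd_of_emod_eq_zero (h2 x hx)) t u
  have key : ∀ r ∈ ([25, 27, 28, 30] : List ℕ), ∀ t : K,
      Commute (xe r t) (xe pc.ab c' * xe pc.aab d') := fun r hr t =>
    (h r hr 28 (by simp) t c').mul_right (h r hr 30 (by simp) t d')
  simp only [four]
  exact ((key 25 (by simp) _).mul_left (key 27 (by simp) _)).mul_left
    ((key 28 (by simp) _).mul_left (key 30 (by simp) _))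

omit [Fintype K] in
theorem pr_top (c : K) : pr pc φ 0 c = xe pc.ab c * xe pc.aab (φ c ^ 2) := by
  obtain ⟨-, -, -, -, -, -, -, -, hb, ha, hab, haab, -⟩ := four_ok pc (by simp)
  simp only [pr, four, map_zero, zero_mul, zero_add, xe_zero hb, xe_zero ha, one_mul]

theorem hc_zpow (a b : Kˣ) (k : ℤ) : hc m a b ^ k = hc m (a ^ k) (b ^ k) := by
  refine four_ext ?_ ?_ rfl rfl
  · show (a ^ 2 ^ m) ^ k = (a ^ k) ^ 2 ^ m
    rw [← zpow_natCast, ← zpow_natCast, ← zpow_mul, ← zpow_mul, mul_comm]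
  · show (b ^ 2 ^ m) ^ k = (b ^ k) ^ 2 ^ m
    rw [← zpow_natCast, ← zpow_natCast, ← zpow_mul, ← zpow_mul, mul_comm]

theorem two_gen (hφ : ∀ t, φ t = t ^ 2 ^ m) (hK : Fintype.card K = 2 ^ (2 * m + 1))
    (hm : 1 ≤ m) :
    ∃ a b : ↥(twistedF4 K (2 ^ m)), Subgroup.closure ({a, b} : Set ↥(twistedF4 K (2 ^ m))) = ⊤ := by
  classical
  have hθ := theta hφ hK
  have hmem : (pc ∈ [pc, nc]) := by simp
  set Md := model hφ hK
  obtain ⟨g, hgo⟩ := exists_gen (K := K) hK
  have hggen : ∀ x : Kˣ, x ∈ Subgroup.zpowers g := by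
    have e : Subgroup.zpowers g = ⊤ := Subgroup.eq_top_of_card_eq _ (by
      rw [Nat.card_zpowers, hgo, Nat.card_eq_fintype_card, Fintype.card_units, hK])
    exact fun x => e ▸ Subgroup.mem_top x
  set θ : ℤ := ((2 ^ m : ℕ) : ℤ) with hθdef
  have hper : g ^ (2 * θ * θ - 1) = 1 := by
    rw [zpow_sub, zpow_one, mul_inv_eq_one,
      show (2 : ℤ) * θ * θ = ((2 ^ m * (2 ^ m * 2) : ℕ) : ℤ) by rw [hθdef]; push_cast; ring,
      zpow_natCast, pow_mul, units_theta hK]
  have unit_gen : ∀ x y k : ℤ, x * y = 1 + k * (2 * θ * θ - 1) →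
      ∀ u : Kˣ, u ∈ Subgroup.zpowers (g ^ x) := by
    intro x y k e u
    obtain ⟨i, rfl⟩ := Subgroup.mem_zpowers_iff.1 (hggen u)
    refine zpow_mem (Subgroup.mem_zpowers_iff.2 ⟨y, ?_⟩) i
    show (g ^ x) ^ y = g
    rw [← zpow_mul, e, zpow_add, zpow_one, mul_comm k, zpow_mul, hper, one_zpow, mul_one]
  have hq8 : 8 ≤ 2 ^ (2 * m + 1) :=
    le_trans (by norm_num : (8 : ℕ) ≤ 2 ^ 3) (Nat.pow_le_pow_right (by norm_num) (by omega))
  have gen_ne : ∀ {u : Kˣ}, (∀ x : Kˣ, x ∈ Subgroup.zpowers u) → u ≠ 1 := by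
    intro u hu h1
    obtain ⟨i, hi⟩ := Subgroup.mem_zpowers_iff.1 (hu g)
    rw [h1, one_zpow] at hi
    rw [← hi, orderOf_one] at hgo
    omega
  obtain ⟨e24, e33, e25, e28, e31, e43, hp31, hp24⟩ := chars_ok
  simp only [List.cons.injEq, and_true] at e24 e33 e25 e28 e31 e43
  set c := hc m g (g ^ (2 : ℤ)) with hc'
  have hch : ∀ r, chT c r = g ^ (θ * (chevF4.cartan 0 r + 2 * chevF4.cartan 1 r) +
      (2 * chevF4.cartan 2 r + chevF4.cartan 3 r)) := by
    intro r
    rw [chT_eq]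
    show (g ^ 2 ^ m) ^ chevF4.cartan 0 r * ((g ^ (2 : ℤ)) ^ 2 ^ m) ^ chevF4.cartan 1 r *
      (g ^ (2 : ℤ)) ^ chevF4.cartan 2 r * g ^ chevF4.cartan 3 r = _
    rw [← zpow_natCast g, ← zpow_natCast (g ^ (2 : ℤ)), ← hθdef]
    simp only [← zpow_mul, ← zpow_add]
    congr 1
    ring
  have h24 : chT c 24 = 1 := by
    rw [hch, e24.1, e24.2.1, e24.2.2.1, e24.2.2.2]; simp
  have h33 : chT c 33 = 1 := by
    rw [hch, e33.1, e33.2.1, e33.2.2.1, e33.2.2.2]; simp
  have g25 : ∀ u, u ∈ Subgroup.zpowers (chT c 25) := by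
    intro u
    rw [hch, e25.1, e25.2.1, e25.2.2.1, e25.2.2.2]
    refine unit_gen _ (4 * θ + 3) (-8) ?_ u
    ring
  have g28 : ∀ u, u ∈ Subgroup.zpowers (chT c 28) := by
    intro u
    rw [hch, e28.1, e28.2]
    refine unit_gen _ (2 + 2 * θ) (-1) ?_ u
    ring
  have g31 : ∀ u, u ∈ Subgroup.zpowers (chT c 31) := by
    intro u
    rw [hch, e31.1, e31.2]
    refine unit_gen _ (2 * θ + 1) 2 ?_ u
    ring
  have g43 : ∀ u, u ∈ Subgroup.zpowers (chT c 43) := by
    intro u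
    rw [hch, e43.1, e43.2]
    refine unit_gen _ (1 + θ) (-1) ?_ u
    ring
  set h := tG (QD K) c with hhdef
  have hhf : (endo φ).σ h = h := hc_fixed hφ hK _ _
  set av := (fold φ).gens (0 : Fin 2) * (fold φ).gens (1 : Fin 2) with hav
  have hπ : ∀ r (hr : r < chevF4.nroots),
      ((QD K).X.good.hom ((fold φ).ι av) ⟨r, hr⟩).val = cpi r := by
    intro r hr
    rw [hav, map_mul (fold φ).ι, (fold φ).ι_gens (0 : Fin 2), (fold φ).ι_gens (1 : Fin 2),
      ← Weyl.wOf_append]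
    rw [show (fold φ).word (0 : Fin 2) ++ (fold φ).word (1 : Fin 2) = cw from words_eq,
      (QD K).X.good.hom_wOf_val (show ∀ i ∈ cw, i < 4 by decide)]
    rfl
  let W : Mover (QD K) :=
    { m := Md.rep ((fold φ).ι av)
      π := cpi
      lt := cpi_lt
      move := fun r hr t => by
        obtain ⟨t', e⟩ := Md.rep_move av hr t
        exact ⟨t', by rw [e, hπ]⟩ }
  set n := Md.rep ((fold φ).ι av) with hn
  have hnf : (endo φ).σ n = n := Md.TG_fixed (Md.rep_mem av)
  have hnH : ∀ y ∈ (QD K).sys.H, n * y * n⁻¹ ∈ (QD K).sys.H := by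
    intro y hy
    obtain ⟨k, hk, e⟩ := Md.rep_spec ((fold φ).ι av)
    rw [hn, e, show ∀ z : ↥(chevF4.group K), k * z * y * (k * z)⁻¹ = k * (z * y * z⁻¹) * k⁻¹ from
      fun z => by group]
    exact mul_mem (mul_mem hk ((QD K).sys.rep_conj_H _ hy)) (inv_mem hk)
  obtain ⟨-, -, -, -, -, -, -, -, -, hcA, -⟩ := pair_ok
  have hcomA : ∀ t u : K, Commute (xe 24 t) (xe 33 u) := fun t u =>
    commute_xG (QD K) hcA (by simp) (by simp) t u
  set pA : K → ↥(chevF4.group K) := fun x => xe 33 (φ x) * xe 24 x with hpA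
  have hpf : ∀ x, (endo φ).σ (pA x) = pA x := fun x => pair_fixed hθ (by simp) x
  have hpadd : ∀ x y, pA (x + y) = pA x * pA y := by
    intro x y
    simp only [hpA, map_add]
    rw [xe_add (by decide +kernel), xe_add (by decide +kernel)]
    calc xe 33 (φ x) * xe 33 (φ y) * (xe 24 x * xe 24 y)
        = xe 33 (φ x) * (xe 33 (φ y) * xe 24 x) * xe 24 y := by group
      _ = _ := by rw [← (hcomA x (φ y)).eq]; group
  have hp0 : pA 0 = 1 := by
    simp only [hpA, map_zero]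
    rw [xe_zero (by decide +kernel), xe_zero (by decide +kernel), one_mul]
  refine transfer Md (a := h * pA 1) (b := pr pc φ 1 0 * n) ?_ ?_ fun M ha hb => ?_
  · show (endo φ).σ _ = _; rw [map_mul, hhf, hpf]; rfl
  · show (endo φ).σ _ = _; rw [map_mul, pr_fixed hθ hmem, hnf]; rfl
  -- splitting the first generator
  have hcp : Commute h (pA 1) := by
    have e24' := tG_conj (QD K) c (show 24 < chevF4.nroots by decide +kernel) (1 : K)
    have e33' := tG_conj (QD K) c (show 33 < chevF4.nroots by decide +kernel) (φ 1)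
    rw [h24, Units.val_one, one_mul, mul_inv_eq_iff_eq_mul] at e24'
    rw [h33, Units.val_one, one_mul, mul_inv_eq_iff_eq_mul] at e33'
    exact Commute.mul_right e33' e24'
  have hhM : h ∈ M := by
    have h1 := pow_mem ha (Fintype.card K)
    have hp2 : pA 1 ^ 2 = 1 := by rw [pow_two, ← hpadd, CharTwo.add_self_eq_zero, hp0]
    have hpq : pA 1 ^ Fintype.card K = 1 := by
      rw [hK, pow_succ', pow_mul, hp2, one_pow]
    rw [hcp.mul_pow, hpq, mul_one, hhdef, ← map_pow] at h1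
    rwa [show c ^ Fintype.card K = c from
      funext fun i => Units.ext (by simp [FiniteField.pow_card])] at h1
  have hpM : pA 1 ∈ M := (Subgroup.mul_mem_cancel_left M hhM).1 ha
  -- the conjugated torus element
  obtain ⟨a', b', ht⟩ := exists_hc hφ (hnH h (tG_mem _ _))
    (show (endo φ).σ (n * h * n⁻¹) = n * h * n⁻¹ by rw [map_mul, map_mul, map_inv, hnf, hhf])
  set d := chT (hc m a' b') 25 with hd
  have hd1 : d ≠ 1 := by
    intro hd1
    have h31 : 31 < chevF4.nroots := by decide +kernel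
    obtain ⟨t1, e1⟩ := W.move 31 h31 1
    simp only [W, hp31] at e1
    have e2 := tG_conj (QD K) (hc m a' b') (show 25 < chevF4.nroots by decide +kernel) t1
    rw [← hd, hd1, Units.val_one, one_mul, ← e1, ← ht, ← hn,
      show ∀ y : ↥(chevF4.group K), n * h * n⁻¹ * (n * y * n⁻¹) * (n * h * n⁻¹)⁻¹
        = n * (h * y * h⁻¹) * n⁻¹ from fun y => by group, hhdef, tG_conj (QD K) _ h31] at e2
    have e3 := xG_inj (QD K) h31 (mul_left_cancel (mul_right_cancel e2))
    rw [mul_one] at e3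
    exact gen_ne g31 (Units.ext e3)
  set X := pr pc φ 1 0 with hX
  set c1 : K := (chT c 25 : K) with hc1
  set P := pr pc φ c1 0 with hP
  have hconjX : h * X * h⁻¹ = P := by
    rw [hhdef, hX, hc', conj_pr hφ hK, mul_one, mul_zero, ← hc', ← hc1]
  have hUw : ∀ {v : ↥(chevF4.group K)}, v ∈ (QD K).sys.Uw ((fold φ).ι ((fold φ).gens (1 : Fin 2))) →
      (endo φ).σ v = v → ∃ t s, v = pr pc φ t s := fun hv hvf => exists_pr hv hvf
  obtain ⟨τ, s1, eτ⟩ := hUw (v := P⁻¹ * X) (mul_mem (inv_mem (pr_Uw _ _)) (pr_Uw _ _))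
    (by rw [map_mul, map_inv, pr_fixed hθ hmem, pr_fixed hθ hmem])
  have hτ : 1 = c1 + τ :=
    head_add (show X = P * pr pc φ τ s1 by rw [← eτ, mul_inv_cancel_left])
  set T := tG (QD K) (hc m a' b') with hT
  have hTt : T * pr pc φ τ s1 * T⁻¹ = pr pc φ ((d : K) * τ) ((chT (hc m a' b') 28 : K) * s1) :=
    conj_pr hφ hK a' b' τ s1
  set z := P * pr pc φ ((d : K) * τ) ((chT (hc m a' b') 28 : K) * s1) * X⁻¹ with hz
  have hzU : z ∈ (QD K).sys.Uw ((fold φ).ι ((fold φ).gens (1 : Fin 2))) :=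
    mul_mem (mul_mem (pr_Uw _ _) (pr_Uw _ _)) (inv_mem (pr_Uw _ _))
  have hzf : (endo φ).σ z = z := by
    rw [hz, map_mul, map_mul, map_inv, pr_fixed hθ hmem, pr_fixed hθ hmem, pr_fixed hθ hmem]
  obtain ⟨z0, z1, ez⟩ := hUw hzU hzf
  obtain ⟨q0, q1, eq'⟩ := hUw (v := P * pr pc φ ((d : K) * τ) ((chT (hc m a' b') 28 : K) * s1))
    (mul_mem (pr_Uw _ _) (pr_Uw _ _))
    (by rw [map_mul, pr_fixed hθ hmem, pr_fixed hθ hmem])
  have hq0 : q0 = c1 + (d : K) * τ := head_add eq'.symm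
  have hq0' : q0 = z0 + 1 :=
    head_add (show pr pc φ q0 q1 = pr pc φ z0 z1 * X by rw [← eq', ← ez, hz, inv_mul_cancel_right])
  have hz0 : z0 ≠ 0 := by
    intro h0
    have h1 : (c1 - 1) * (1 - (d : K)) = 0 := by
      linear_combination hq0' - hq0 + (d : K) * hτ + h0
    rcases mul_eq_zero.1 h1 with h2 | h2
    · exact gen_ne g25 (Units.ext (sub_eq_zero.1 h2))
    · exact hd1 (Units.ext (sub_eq_zero.1 h2).symm)
  have hzM : z ∈ M := by
    have hy : X * T * X⁻¹ ∈ M := by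
      rw [← ht, show X * (n * h * n⁻¹) * X⁻¹ = X * n * h * (X * n)⁻¹ by group]
      exact mul_mem (mul_mem hb hhM) (inv_mem hb)
    have h1 : h * (X * T * X⁻¹) * h⁻¹ * (X * T * X⁻¹)⁻¹ ∈ M :=
      mul_mem (mul_mem (mul_mem hhM hy) (inv_mem hhM)) (inv_mem hy)
    rwa [show h * (X * T * X⁻¹) * h⁻¹ * (X * T * X⁻¹)⁻¹
        = (h * X * h⁻¹) * (h * T * h⁻¹) * (h * X * h⁻¹)⁻¹ * X * T⁻¹ * X⁻¹ by group,
      show h * T * h⁻¹ = T by rw [hhdef, hT, ← map_mul, mul_comm, map_mul, mul_inv_cancel_right],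
      hconjX, show P * T * P⁻¹ * X * T⁻¹ * X⁻¹ = P * (T * (P⁻¹ * X) * T⁻¹) * X⁻¹ by group, eτ,
      hTt, ← hz] at h1
  have hpow : ∀ (k : ℤ) (t s : K), h ^ k * pr pc φ t s * (h ^ k)⁻¹
      = pr pc φ (((chT c 25) ^ k : Kˣ) * t) (((chT c 28) ^ k : Kˣ) * s) := by
    intro k t s
    rw [hhdef, ← map_zpow, hc', hc_zpow, conj_pr hφ hK, ← hc_zpow, ← hc', chT_zpow, chT_zpow]
  -- the first coordinates
  have hheads : ∀ x, ∃ s, pr pc φ (x * z0) s ∈ M := by
    refine span_all g25 (e := 1) (by decide) ⟨0, ?_⟩ ?_ ?_ ?_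
    · have e := pr_top (φ := φ) (0 : K)
      rw [zero_mul, e, map_zero, zero_pow two_ne_zero, xe_zero (by decide +kernel),
        xe_zero (by decide +kernel), one_mul]
      exact one_mem M
    · rintro a b ⟨s, hs⟩ ⟨u, hu⟩
      obtain ⟨t', s', e⟩ := hUw (v := pr pc φ (a * z0) s * pr pc φ (b * z0) u)
        (mul_mem (pr_Uw _ _) (pr_Uw _ _))
        (by rw [map_mul, pr_fixed hθ hmem, pr_fixed hθ hmem])
      have ht' : t' = (a + b) * z0 := by rw [head_add e.symm, add_mul]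
      exact ⟨s', by rw [← ht', ← e]; exact mul_mem hs hu⟩
    · rintro a ⟨s, hs⟩
      exact ⟨s, by rwa [CharTwo.neg_eq]⟩
    · intro k
      refine ⟨(((chT c 28) ^ k : Kˣ) : K) * z1, ?_⟩
      rw [zpow_one, ← hpow k z0 z1, ← ez]
      exact mul_mem (mul_mem (zpow_mem hhM k) hzM) (inv_mem (zpow_mem hhM k))
  have hhead : ∀ t, ∃ s, pr pc φ t s ∈ M := fun t => by
    obtain ⟨s, hs⟩ := hheads (t / z0)
    exact ⟨s, by rwa [div_mul_cancel₀ t hz0] at hs⟩
  have htop : ∀ s, pr pc φ 0 s ∈ M := by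
    obtain ⟨s, hs⟩ := hhead 1
    obtain ⟨t', s', e⟩ := hUw (v := X⁻¹ * pr pc φ 1 s) (mul_mem (inv_mem (pr_Uw _ _)) (pr_Uw _ _))
      (by rw [map_mul, map_inv, pr_fixed hθ hmem, pr_fixed hθ hmem])
    have ht' : t' = 0 := by
      have := head_add (show pr pc φ 1 s = X * pr pc φ t' s' by rw [← e, mul_inv_cancel_left])
      linear_combination -this
    subst ht'
    have hsq : X * X = pr pc φ 0 1 := by
      have e1 : ∀ T U c' d' : K, four pc T U c' d' = wG (QD K) [(25, T), (27, U), (28, c'), (30, d')] := by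
        intro T U c' d'
        simp [four, pc, wG, mul_assoc]
      have e2 := wG_eq_of_sameWordP (Q := QD K) 2 square_ok
      simp only [castW, List.map_cons, List.map_nil, Int.cast_one, Int.cast_zero] at e2
      simp only [hX, pr, map_one, map_zero, mul_one, one_pow, zero_pow two_ne_zero, add_zero,
        zero_mul, zero_add]
      rw [e1, e1, ← wG_append]
      exact e2
    have h1 : pr pc φ 1 s * pr pc φ 1 s = pr pc φ 0 1 := by
      rw [show pr pc φ 1 s = X * pr pc φ 0 s' by rw [← e, mul_inv_cancel_left]]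
      have hc2 : Commute X (pr pc φ 0 s') := by rw [pr_top]; exact central _ _ _ _ _ _
      rw [show X * pr pc φ 0 s' * (X * pr pc φ 0 s') = X * (pr pc φ 0 s' * X) * pr pc φ 0 s' by group,
        ← hc2.eq, show X * (X * pr pc φ 0 s') * pr pc φ 0 s'
          = X * X * (pr pc φ 0 s' * pr pc φ 0 s') by group, hsq, pr_top_mul, pr_top_mul,
        CharTwo.add_self_eq_zero, add_zero]
    have hone : pr pc φ 0 (1 : K) ∈ M := h1 ▸ mul_mem hs hs
    refine span_all g28 (e := 1) (by decide) ?_ ?_ ?_ ?_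
    · have e0 := pr_top (φ := φ) (0 : K)
      rw [e0, map_zero, zero_pow two_ne_zero, xe_zero (by decide +kernel),
        xe_zero (by decide +kernel), one_mul]
      exact one_mem M
    · intro a b ha' hb'
      rw [← pr_top_mul]; exact mul_mem ha' hb'
    · intro a ha'
      rwa [CharTwo.neg_eq]
    · intro k
      have := hpow k 0 1
      rw [mul_zero, mul_one] at this
      rw [zpow_one, ← this]
      exact mul_mem (mul_mem (zpow_mem hhM k) hone) (inv_mem (zpow_mem hhM k))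
  have hall : ∀ t s, pr pc φ t s ∈ M := by
    intro t s
    obtain ⟨u, hu⟩ := hhead t
    obtain ⟨t', s', e⟩ := hUw (v := (pr pc φ t u)⁻¹ * pr pc φ t s)
      (mul_mem (inv_mem (pr_Uw _ _)) (pr_Uw _ _))
      (by rw [map_mul, map_inv, pr_fixed hθ hmem, pr_fixed hθ hmem])
    have hts : pr pc φ t s = pr pc φ t u * pr pc φ t' s' := by rw [← e, mul_inv_cancel_left]
    have ht' : t' = 0 := by have := head_add hts; linear_combination -this
    rw [hts, ht']
    exact mul_mem hu (htop s')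
  have hBfull : ClassFull (endo φ) M (↑pos.toFinset : Set ℕ) := by
    intro v hv hvf
    obtain ⟨t, s, rfl⟩ := exists_pr (φ := φ) (Uw_gen (φ := φ) ▸ hv) hvf
    exact hall t s
  have hnM : n ∈ M := (Subgroup.mul_mem_cancel_left M (hall 1 0)).1 hb
  -- the class of commuting roots
  have hAfull : ClassFull (endo φ) M {r | r ∈ ([24, 33] : List ℕ)} := by
    have hpar : ∀ v ∈ XS (QD K).sys.x {r | r ∈ ([24, 33] : List ℕ)}, (endo φ).σ v = v →
        ∃ x, v = pA x := by
      intro v hv hvf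
      have hset : ({r | r ∈ ([24, 33] : List ℕ)} : Set ℕ) = (↑(orb φ).L.toFinset : Set ℕ) := by
        ext r; simp [orb]
      rw [hset] at hv
      obtain ⟨t, rfl⟩ := exists_xprod (QD K) (orb φ).sorted (orb φ).closed hv
      have ht := ((orb φ).fixed_iff t).1 hvf 24 (by simp [orb])
      obtain ⟨r1, r2, -, -, l1, l2, -⟩ := pair_ok
      change t (tables.rh 24) = φ (t 24) ^ Isog.dataF4.lm 24 at ht
      rw [r2, l2, pow_one] at ht
      refine ⟨t 24, ?_⟩
      rw [show xprod (QD K) (orb φ).L t = xe 24 (t 24) * xe 33 (t 33) by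
        simp [orb, xprod], ht, (hcomA _ _).eq]
    have h24lt : 24 < chevF4.nroots := by decide +kernel
    intro v hv hvf
    obtain ⟨x, rfl⟩ := hpar v hv hvf
    by_cases hx : x = 0
    · subst hx; rw [hp0]; exact one_mem M
    obtain ⟨t1, e1⟩ := W.move 24 h24lt 1
    obtain ⟨t2, e2⟩ := W.move 24 h24lt x
    simp only [W, hp24, ← hn] at e1 e2
    have ht1 : t1 ≠ 0 := by
      rintro rfl
      rw [show xG (QD K).K K 43 (0 : K) = 1 from xe_zero (by decide +kernel), conj_eq_one_iff] at e1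
      exact one_ne_zero (xG_inj (QD K) h24lt (e1.trans (xe_zero h24lt).symm))
    have ht2 : t2 ≠ 0 := by
      rintro rfl
      rw [show xG (QD K).K K 43 (0 : K) = 1 from xe_zero (by decide +kernel), conj_eq_one_iff] at e2
      exact hx (xG_inj (QD K) h24lt (e2.trans (xe_zero h24lt).symm))
    obtain ⟨k, hk⟩ := Subgroup.mem_zpowers_iff.1 (g43 (Units.mk0 t2 ht2 * (Units.mk0 t1 ht1)⁻¹))
    set u := n⁻¹ * h ^ k * n with hu
    have huM : u ∈ M := mul_mem (mul_mem (inv_mem hnM) (zpow_mem hhM k)) hnM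
    have huf : (endo φ).σ u = u := by rw [hu, map_mul, map_mul, map_inv, hnf, map_zpow, hhf]
    have hconj : u * xe 24 1 * u⁻¹ = xe 24 x := by
      refine mul_left_cancel (a := n) (mul_right_cancel (b := n⁻¹) ?_)
      rw [show n * (u * xe 24 1 * u⁻¹) * n⁻¹ = h ^ k * (n * xe 24 1 * n⁻¹) * (h ^ k)⁻¹ by
        rw [hu]; group, e1, e2, hhdef, ← map_zpow, tG_conj (QD K) _ (by decide +kernel), chT_zpow,
        hk]
      congr 1
      simp only [Units.val_mul, Units.val_inv_eq_inv_val, Units.val_mk0]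
      field_simp
    -- conjugation of the class by the torus element
    obtain ⟨k', hk', e'⟩ : ∃ a'' b'', u = tG (QD K) (hc m a'' b'') := by
      refine exists_hc hφ ?_ huf
      obtain ⟨k0, hk0, er⟩ := Md.rep_spec ((fold φ).ι av)
      rw [hu, hn, er, mul_inv_rev, show ∀ y : ↥(chevF4.group K),
        y⁻¹ * k0⁻¹ * h ^ k * (k0 * y) = y⁻¹ * (k0⁻¹ * h ^ k * k0) * y from fun y => by group]
      obtain ⟨l, hl, el⟩ := (QD K).sys.rep_inv ((fold φ).ι av)
      set y := (QD K).sys.rep ((fold φ).ι av)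
      set y' := (QD K).sys.rep ((fold φ).ι av)⁻¹ with hy'
      rw [show ∀ a : ↥(chevF4.group K), y⁻¹ * a * y = y⁻¹ * a * (y⁻¹)⁻¹ from fun a => by group, el,
        show ∀ a : ↥(chevF4.group K), l * y' * a * (l * y')⁻¹ = l * (y' * a * y'⁻¹) * l⁻¹ from
          fun a => by group]
      exact mul_mem (mul_mem hl ((QD K).sys.rep_conj_H _
        (mul_mem (mul_mem (inv_mem hk0) (zpow_mem (tG_mem _ _) k)) hk0))) (inv_mem hl)
    have h1 : u * pA 1 * u⁻¹ ∈ M := mul_mem (mul_mem huM hpM) (inv_mem huM)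
    obtain ⟨y, hy⟩ := hpar (u * pA 1 * u⁻¹) (by
      rw [e']
      simp only [hpA]
      rw [show ∀ T a b : ↥(chevF4.group K), T * (a * b) * T⁻¹ = T * a * T⁻¹ * (T * b * T⁻¹) from
        fun T a b => by group, tG_conj (QD K) _ (by decide +kernel), tG_conj (QD K) _ h24lt]
      exact mul_mem (x_mem_XS (by simp) _) (x_mem_XS (by simp) _))
      (by rw [map_mul, map_mul, map_inv, huf, hpf])
    suffices y = x by rw [← this, ← hy]; exact h1
    have h24' : xe 24 ((chT (hc m k' hk') 24 : K) * 1) = xe 24 x := by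
      rw [← hconj, e', tG_conj (QD K) _ h24lt]
    have hval := xG_inj (QD K) h24lt h24'
    have e4 : xprod (QD K) (orb φ).L (fun r => (chT (hc m k' hk') r : K) *
        (if r = 24 then 1 else φ 1)) = xprod (QD K) (orb φ).L (fun r => if r = 24 then y else φ y) := by
      rw [← Orbit.xprod_conj, ← e']
      have e5 : ∀ z : K, xprod (QD K) (orb φ).L (fun r => if r = 24 then z else φ z) = pA z := by
        intro z
        simp [orb, xprod, hpA, (hcomA z (φ z)).eq]
      rw [e5, e5, hy]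
    have e6 := xprod_inj (QD K) (orb φ).sorted (orb φ).closed e4 24 (by simp [orb])
    simp only [if_true] at e6
    rw [← e6, hval]
  -- all generators
  have hA := fun k => (ClassFull.iterate W hnM hnf
    (fun r hr => (by decide +kernel : ∀ r ∈ ([24, 33] : List ℕ), r < chevF4.nroots) r hr)
    hAfull k).2
  have hB := fun k => (ClassFull.iterate W hnM hnf
    (fun r hr => (by decide +kernel : ∀ r ∈ pos, r < chevF4.nroots) r (List.mem_toFinset.1 hr))
    hBfull k).2
  intro x hx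
  have hx' : (x : GL chevF4.Idx K) ∈ twistedF4 K (2 ^ m) := by
    have := Md.fixed_eq ▸ hx
    exact this
  refine (Subgroup.closure_le _).2 ?_ (le_closure_words (Q := QD K) hx')
  rintro y ⟨w, hw, rfl⟩
  have hfix := le_fixed hφ hK _ (wG_mem (Q := QD K) hw)
  have hmemS : ∀ S : Set ℕ, (∀ p ∈ w, p.1 ∈ S) → wG (QD K) w ∈ XS (QD K).sys.x S := by
    intro S hS
    refine Subgroup.list_prod_mem _ fun y hy => ?_
    obtain ⟨p, hp, rfl⟩ := List.mem_map.1 hy
    exact x_mem_XS (hS p hp) p.2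
  have inA : ∀ (k : Fin 8), (∀ p ∈ w, p.1 ∈ ([24, 33] : List ℕ).map cpi^[k.val]) →
      wG (QD K) w ∈ M := fun k hk => hA k.val _ (hmemS _ fun p hp => by
        obtain ⟨s, hs, e⟩ := List.mem_map.1 (hk p hp)
        exact ⟨s, hs, e⟩) hfix
  have inB : ∀ (k : Fin 8), (∀ p ∈ w, p.1 ∈ pos.map cpi^[k.val]) →
      wG (QD K) w ∈ M := fun k hk => hB k.val _ (hmemS _ fun p hp => by
        obtain ⟨s, hs, e⟩ := List.mem_map.1 (hk p hp)
        exact ⟨s, List.mem_toFinset.2 hs, e⟩) hfix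
  rcases hw with ⟨t, rfl | rfl⟩ | ⟨t, u, rfl | rfl⟩
  · refine inA 0 ?_
    simp only [f4PairWord, List.forall_mem_cons, List.not_mem_nil, false_implies, implies_true,
      and_true]
    decide +kernel
  · refine inA 4 ?_
    simp only [f4PairWord, List.forall_mem_cons, List.not_mem_nil, false_implies, implies_true,
      and_true]
    decide +kernel
  · refine inB 0 ?_
    simp only [b2ClassWord, List.forall_mem_cons, List.not_mem_nil, false_implies, implies_true,
      and_true]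
    decide +kernel
  · refine inB 4 ?_
    simp only [b2ClassWord, List.forall_mem_cons, List.not_mem_nil, false_implies, implies_true,
      and_true]
    decide +kernel

end Cfsg.Agent.H37.TwoGen.F4
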