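import Cfsg.Agent.H37.TwoGen.Basic
import Cfsg.Agent.H37.Twist.Result
import Cfsg.Agent.H37.Twist.Orbit

/-!
Two generators of a group of fixed elements: a singleton class and a class of commuting roots.
-/
set_option autoImplicit false

namespace Cfsg.Agent.H37.TwoGen

open Cfsg.Lie Cfsg.Agent.H37.RootSys Cfsg.Agent.H37.Twist Cfsg.Agent.H37.NormalForm

variable {D : ChevalleyDatum} {K : Type*} [Field K] {Q : Chev.Data D K} (E : Endo Q)

/-- All fixed elements over a set of roots are inside. -/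
def ClassFull (M : Subgroup ↥(D.group K)) (A : Set ℕ) : Prop :=
  ∀ v ∈ XS Q.sys.x A, E.σ v = v → v ∈ M

/-- An element carrying root subgroups onto root subgroups. -/
structure Mover (Q : Chev.Data D K) where
  m : ↥(D.group K)
  π : ℕ → ℕ
  lt : ∀ r, r < D.nroots → π r < D.nroots
  move : ∀ r, r < D.nroots → ∀ t, ∃ t',
    m * xG Q.K K r t * m⁻¹ = xG Q.K K (π r) t'

variable {E} (W : Mover Q)

theorem Mover.surj [Finite K] {r : ℕ} (hr : r < D.nroots) (t' : K) :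
    ∃ t, W.m * xG Q.K K r t * W.m⁻¹ = xG Q.K K (W.π r) t' := by
  choose f hf using W.move r hr
  have hinj : Function.Injective f := fun a b hab => by
    refine xG_inj Q hr ?_
    have := (hf a).trans ((congrArg _ hab).trans (hf b).symm)
    exact mul_left_cancel (mul_right_cancel this)
  obtain ⟨t, rfl⟩ := Finite.injective_iff_surjective.1 hinj t'
  exact ⟨t, hf t⟩

theorem Mover.XS_le [Finite K] {A : Set ℕ} (hA : ∀ r ∈ A, r < D.nroots) :
    XS Q.sys.x (W.π '' A) ≤ (XS Q.sys.x A).map (MulAut.conj W.m).toMonoidHom := by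
  refine (Subgroup.closure_le _).2 ?_
  rintro g ⟨-, ⟨r, hr, rfl⟩, t', rfl⟩
  obtain ⟨t, e⟩ := W.surj (hA r hr) t'
  exact ⟨xG Q.K K r t, x_mem_XS hr t, e⟩

theorem ClassFull.move [Finite K] {M : Subgroup ↥(D.group K)} (hm : W.m ∈ M)
    (hmf : E.σ W.m = W.m) {A : Set ℕ} (hA : ∀ r ∈ A, r < D.nroots) (h : ClassFull E M A) :
    ClassFull E M (W.π '' A) := by
  intro v hv hvf
  obtain ⟨u, hu, rfl⟩ := W.XS_le hA hv
  have e : (MulAut.conj W.m).toMonoidHom u = W.m * u * W.m⁻¹ := rfl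
  rw [e] at hvf ⊢
  refine mul_mem (mul_mem hm (h u hu ?_)) (inv_mem hm)
  rw [map_mul, map_mul, map_inv, hmf] at hvf
  exact mul_left_cancel (mul_right_cancel hvf)

theorem ClassFull.iterate [Finite K] {M : Subgroup ↥(D.group K)} (hm : W.m ∈ M)
    (hmf : E.σ W.m = W.m) {A : Set ℕ} (hA : ∀ r ∈ A, r < D.nroots) (h : ClassFull E M A) :
    ∀ k : ℕ, (∀ r ∈ W.π^[k] '' A, r < D.nroots) ∧ ClassFull E M (W.π^[k] '' A)
  | 0 => by simpa using ⟨hA, h⟩
  | k + 1 => by
      obtain ⟨h1, h2⟩ := ClassFull.iterate hm hmf hA h k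
      rw [Function.iterate_succ', Set.image_comp]
      exact ⟨fun r hr => by obtain ⟨s, hs, rfl⟩ := hr; exact W.lt s (h1 s hs),
        ClassFull.move W hm hmf h1 h2⟩

theorem ClassFull.mono {M : Subgroup ↥(D.group K)} {A B : Set ℕ} (hBA : B ⊆ A)
    (h : ClassFull E M A) : ClassFull E M B := fun v hv hvf => h v (XS_mono hBA hv) hvf

theorem mem_XS_single {r : ℕ} (hr : r < D.nroots) {v : ↥(D.group K)}
    (hv : v ∈ XS Q.sys.x ({r} : Set ℕ)) : ∃ t, v = xG Q.K K r t := by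
  refine Subgroup.closure_induction (p := fun v _ => ∃ t, v = xG Q.K K r t) ?_
    ⟨0, (Q.sys.x_zero' hr).symm⟩ ?_ ?_ hv
  · rintro g ⟨s, rfl, t, rfl⟩; exact ⟨t, rfl⟩
  · rintro a b _ _ ⟨t, rfl⟩ ⟨u, rfl⟩; exact ⟨t + u, (Q.sys.x_add' r hr t u).symm⟩
  · rintro a _ ⟨t, rfl⟩; exact ⟨-t, Subtype.ext (Q.K.xU_inv K r t)⟩

theorem chT_zpow (c : Fin D.rank → Kˣ) (k : ℤ) (r : ℕ) : chT (c ^ k) r = chT c r ^ k := by
  simp only [chT, Pi.pow_apply, ← Finset.prod_zpow]
  refine Finset.prod_congr rfl fun i _ => ?_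
  rw [← zpow_mul, ← zpow_mul, mul_comm]

/-- The data of the criterion. -/
structure Setup (E : Endo Q) extends Mover Q where
  fixed_m : E.σ m = m
  mH : ∀ h ∈ Q.sys.H, m * h * m⁻¹ ∈ Q.sys.H
  c : Fin D.rank → Kˣ
  fixed_c : E.σ (tG Q c) = tG Q c
  O : Orbit E
  r0 : ℕ
  r0_mem : r0 ∈ O.L
  det : ∀ t : ℕ → K, (∀ r ∈ O.L, t (E.s.T.rh r) = E.f r (t r)) → t r0 = 0 → ∀ r ∈ O.L, t r = 0
  one : ∀ r ∈ O.L, E.f r 1 = 1
  gen : Kˣ
  gen_gen : ∀ x : Kˣ, x ∈ Subgroup.zpowers gen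
  char_r0 : chT c r0 = gen ^ (2 : ℤ)
  char_ne : chT c r0 ≠ 1
  pre : ℕ
  pre_lt : pre < D.nroots
  pre_eq : π pre = r0
  pre_ne : chT c pre ≠ 1
  s : ℕ
  s_lt : s < D.nroots
  s_char : chT c s = 1
  s_fixed : E.σ (xG Q.K K s 1) = xG Q.K K s 1
  j : ℕ
  j_gen : ∀ t : K, t ≠ 0 → E.σ (xG Q.K K (π^[j] s) t) = xG Q.K K (π^[j] s) t →
    ∀ u : K, u ≠ 0 → E.σ (xG Q.K K (π^[j] s) u) = xG Q.K K (π^[j] s) u →
    ∃ k : ℤ, (((chT c (π^[j] s)) ^ k : Kˣ) : K) * t = u

variable (S : Setup E)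

theorem Setup.two_gen [Fintype K] : ∃ a ∈ fixedPts E.σ, ∃ b ∈ fixedPts E.σ,
    ∀ M : Subgroup ↥(D.group K), a ∈ M → b ∈ M →
      (∀ k, ClassFull E M ((S.π^[k]) '' {r | r ∈ S.O.L})) ∧
      (∀ k, ClassFull E M ((S.π^[k]) '' {(S.π^[S.j]) S.s})) := by
  classical
  set X := xprod Q S.O.L fun _ => 1 with hX
  have hXf : E.σ X = X := (S.O.fixed_iff _).2 fun r hr => (S.one r hr).symm
  refine ⟨tG Q S.c * xG Q.K K S.s 1, ?_, X * S.m, ?_, fun M ha hb => ?_⟩
  · show E.σ _ = _; rw [map_mul, S.fixed_c, S.s_fixed]; rfl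
  · show E.σ _ = _; rw [map_mul, hXf, S.fixed_m]; rfl
  -- the torus element and the root element
  set h := tG Q S.c with hh'
  have hcomm : Commute h (xG Q.K K S.s 1) := by
    have e := tG_conj Q S.c S.s_lt (1 : K)
    rw [S.s_char, Units.val_one, one_mul, mul_inv_eq_iff_eq_mul] at e
    exact e
  have hpow : ∀ n : ℕ, xG Q.K K S.s 1 ^ n = xG Q.K K S.s (n : K) := by
    intro n
    induction n with
    | zero => rw [pow_zero, Nat.cast_zero]; exact (Q.sys.x_zero' S.s_lt).symm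
    | succ n ih => rw [pow_succ, ih, Nat.cast_succ]; exact (Q.sys.x_add' _ S.s_lt _ _).symm
  have hhM : h ∈ M := by
    have h1 := pow_mem ha (Fintype.card K)
    rw [hcomm.mul_pow, hpow, FiniteField.cast_card_eq_zero,
      show xG Q.K K S.s (0 : K) = 1 from Q.sys.x_zero' S.s_lt, mul_one, hh', ← map_pow] at h1
    rwa [show S.c ^ Fintype.card K = S.c from
      funext fun i => Units.ext (by simp [FiniteField.pow_card])] at h1
  have hxM : xG Q.K K S.s 1 ∈ M := (Subgroup.mul_mem_cancel_left M hhM).1 ha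
  -- the conjugated torus element
  obtain ⟨d, hd⟩ := exists_tG Q (S.mH h (tG_mem Q _))
  have hr0 := S.O.lt S.r0_mem
  have hd0 : chT d S.r0 ≠ 1 := by
    intro hd1
    obtain ⟨t1, e1⟩ := S.toMover.move S.pre S.pre_lt 1
    rw [S.pre_eq] at e1
    have e2 := tG_conj Q d hr0 t1
    rw [hd1, Units.val_one, one_mul, ← e1, hd,
      show ∀ y : ↥(D.group K), S.m * h * S.m⁻¹ * (S.m * y * S.m⁻¹) * (S.m * h * S.m⁻¹)⁻¹
        = S.m * (h * y * h⁻¹) * S.m⁻¹ from fun y => by group, hh', tG_conj Q _ S.pre_lt] at e2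
    have e3 := xG_inj Q S.pre_lt (mul_left_cancel (mul_right_cancel e2))
    rw [mul_one] at e3
    exact S.pre_ne (Units.ext e3)
  have hcd : h * tG Q d * h⁻¹ = tG Q d := by
    rw [hh', ← map_mul, mul_comm, map_mul, mul_inv_cancel_right]
  have hneg : ∀ t : ℕ → K, (xprod Q S.O.L t)⁻¹ = xprod Q S.O.L fun r => -t r := fun t => by
    refine inv_eq_of_mul_eq_one_right ?_
    rw [← S.O.xprod_add]
    refine List.prod_eq_one fun g hg => ?_
    obtain ⟨r, hr, rfl⟩ := List.mem_map.1 hg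
    simp only [add_neg_cancel]; exact Q.sys.x_zero' (S.O.lt hr)
  set z : ℕ → K := fun r => ((chT S.c r : K) - 1) * (1 - (chT d r : K)) with hzdef
  have hzM : xprod Q S.O.L z ∈ M := by
    have hy : X * tG Q d * X⁻¹ ∈ M := by
      rw [hd, show X * (S.m * h * S.m⁻¹) * X⁻¹ = X * S.m * h * (X * S.m)⁻¹ by group]
      exact mul_mem (mul_mem hb hhM) (inv_mem hb)
    have h1 : h * (X * tG Q d * X⁻¹) * h⁻¹ * (X * tG Q d * X⁻¹)⁻¹ ∈ M :=
      mul_mem (mul_mem (mul_mem hhM hy) (inv_mem hhM)) (inv_mem hy)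
    rw [show h * (X * tG Q d * X⁻¹) * h⁻¹ * (X * tG Q d * X⁻¹)⁻¹
        = (h * X * h⁻¹) * (h * tG Q d * h⁻¹) * (h * X * h⁻¹)⁻¹ * X * (tG Q d)⁻¹ * X⁻¹ by group,
      hcd, hh', hX, S.O.xprod_conj, hneg, hneg,
      show ∀ p q y : ↥(D.group K), p * tG Q d * q * y * (tG Q d)⁻¹
        = p * (tG Q d * (q * y) * (tG Q d)⁻¹) from fun p q y => by group,
      ← S.O.xprod_add, S.O.xprod_conj, ← S.O.xprod_add, ← S.O.xprod_add] at h1
    convert h1 using 1
    refine xprod_congr Q fun r _ => ?_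
    simp only [hzdef]
    ring
  have hzf : E.σ (xprod Q S.O.L z) = xprod Q S.O.L z := by
    have hdf : E.σ (tG Q d) = tG Q d := by
      rw [hd, map_mul, map_mul, map_inv, S.fixed_m, hh', S.fixed_c]
    have hch : ∀ {e : Fin D.rank → Kˣ}, E.σ (tG Q e) = tG Q e → ∀ {t : ℕ → K},
        E.σ (xprod Q S.O.L t) = xprod Q S.O.L t →
          E.σ (xprod Q S.O.L fun r => (chT e r : K) * t r)
            = xprod Q S.O.L fun r => (chT e r : K) * t r := by
      intro e he t ht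
      rw [← S.O.xprod_conj, map_mul, map_mul, map_inv, he, ht]
    have hc1 := hch S.fixed_c hXf
    have h1c : E.σ (xprod Q S.O.L fun r => 1 + -((chT S.c r : K) * 1))
        = xprod Q S.O.L fun r => 1 + -((chT S.c r : K) * 1) := by
      rw [S.O.xprod_add, ← hneg, map_mul, map_inv, hc1, hXf]
    have e : xprod Q S.O.L z = xprod Q S.O.L fun r =>
        ((chT S.c r : K) * 1 + (chT d r : K) * (1 + -((chT S.c r : K) * 1))) + -1 :=
      xprod_congr Q fun r _ => by simp only [hzdef]; ring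
    rw [e, S.O.xprod_add, S.O.xprod_add, ← hneg, map_mul, map_mul, map_inv, hc1, hch hdf h1c, hXf]
  have hLfull : ClassFull E M {r | r ∈ S.O.L} := by
    have hS : ({r | r ∈ S.O.L} : Set ℕ) = (↑S.O.L.toFinset : Set ℕ) := by ext; simp
    let P : K → Prop := fun x => ∃ t : ℕ → K, t S.r0 = x * z S.r0 ∧
      E.σ (xprod Q S.O.L t) = xprod Q S.O.L t ∧ xprod Q S.O.L t ∈ M
    have h0 : xprod Q S.O.L (fun _ => (0 : K)) = 1 := List.prod_eq_one fun g hg => by
      obtain ⟨r, hr, rfl⟩ := List.mem_map.1 hg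
      exact Q.sys.x_zero' (S.O.lt hr)
    have hall : ∀ x, P x := by
      refine span_all S.gen_gen (e := 2) (by decide)
        ⟨fun _ => 0, by simp, by rw [h0, map_one], by rw [h0]; exact one_mem M⟩ ?_ ?_ ?_
      · rintro a b ⟨t, ht, htf, htM⟩ ⟨u, hu, huf, huM⟩
        refine ⟨fun r => t r + u r, by simp only [ht, hu, add_mul], ?_, ?_⟩
        · rw [S.O.xprod_add, map_mul, htf, huf]
        · rw [S.O.xprod_add]; exact mul_mem htM huM
      · rintro a ⟨t, ht, htf, htM⟩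
        refine ⟨fun r => -t r, by simp only [ht, neg_mul], ?_, ?_⟩
        · rw [← hneg, map_inv, htf]
        · rw [← hneg]; exact inv_mem htM
      · intro k
        refine ⟨fun r => (chT (S.c ^ k) r : K) * z r, ?_, ?_, ?_⟩
        · show (chT (S.c ^ k) S.r0 : K) * z S.r0 = _
          rw [chT_zpow, S.char_r0]
        · rw [← S.O.xprod_conj, map_mul, map_mul, map_inv, hzf, map_zpow, map_zpow, S.fixed_c]
        · rw [← S.O.xprod_conj, map_zpow]
          exact mul_mem (mul_mem (zpow_mem hhM k) hzM) (inv_mem (zpow_mem hhM k))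
    intro v hv hvf
    rw [hS] at hv
    obtain ⟨t, rfl⟩ := exists_xprod Q S.O.sorted S.O.closed hv
    have hz0 : z S.r0 ≠ 0 := mul_ne_zero (sub_ne_zero.2 fun h => S.char_ne (Units.ext h))
      (sub_ne_zero.2 fun h => hd0 (Units.ext h.symm))
    obtain ⟨u, hu, huf, huM⟩ := hall (t S.r0 / z S.r0)
    rw [div_mul_cancel₀ _ hz0] at hu
    have hdiff : ∀ r ∈ S.O.L, t r + -u r = 0 := by
      refine S.det (fun r => t r + -u r) ((S.O.fixed_iff fun r => t r + -u r).1 ?_)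
        (show t S.r0 + -u S.r0 = 0 by rw [hu, add_neg_cancel])
      rw [S.O.xprod_add, ← hneg, map_mul, map_inv, hvf, huf]
    rw [show xprod Q S.O.L t = xprod Q S.O.L u from xprod_congr Q fun r hr =>
      eq_of_sub_eq_zero (by rw [sub_eq_add_neg]; exact hdiff r hr)]
    exact huM
  have hmM : S.m ∈ M := by
    refine (Subgroup.mul_mem_cancel_left M (hLfull X ?_ hXf)).1 hb
    have := xprod_mem Q (L := S.O.L) fun _ => (1 : K)
    exact XS_mono (fun r hr => by simpa using hr) this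
  -- the single class
  have hjlt : ∀ k, S.π^[k] S.s < D.nroots := by
    intro k
    induction k with
    | zero => exact S.s_lt
    | succ k ih => rw [Function.iterate_succ_apply']; exact S.toMover.lt _ ih
  have hmove : ∀ k : ℕ, ∃ t : K, t ≠ 0 ∧ xG Q.K K (S.π^[k] S.s) t ∈ M ∧
      E.σ (xG Q.K K (S.π^[k] S.s) t) = xG Q.K K (S.π^[k] S.s) t := by
    intro k
    induction k with
    | zero => exact ⟨1, one_ne_zero, hxM, S.s_fixed⟩
    | succ k ih =>
        obtain ⟨t, ht, htM, htf⟩ := ih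
        obtain ⟨t', e⟩ := S.toMover.move _ (hjlt k) t
        rw [Function.iterate_succ_apply']
        refine ⟨t', ?_, e ▸ mul_mem (mul_mem hmM htM) (inv_mem hmM), ?_⟩
        · rintro rfl
          rw [show xG Q.K K (S.π (S.π^[k] S.s)) (0 : K) = 1 from
            Q.sys.x_zero' (S.toMover.lt _ (hjlt k)), conj_eq_one_iff] at e
          exact ht (xG_inj Q (hjlt k) (e.trans (Q.sys.x_zero' (hjlt k)).symm))
        · rw [← e, map_mul, map_mul, map_inv, S.fixed_m, htf]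
  have hsfull : ClassFull E M {(S.π^[S.j]) S.s} := by
    intro v hv hvf
    obtain ⟨u, rfl⟩ := mem_XS_single (hjlt S.j) hv
    by_cases hu : u = 0
    · subst hu
      rw [show xG Q.K K (S.π^[S.j] S.s) (0 : K) = 1 from Q.sys.x_zero' (hjlt S.j)]
      exact one_mem M
    obtain ⟨t, ht, htM, htf⟩ := hmove S.j
    obtain ⟨k, hk⟩ := S.j_gen t ht htf u hu hvf
    have e := tG_conj Q (S.c ^ k) (hjlt S.j) t
    rw [chT_zpow, hk, map_zpow] at e
    rw [← e]
    exact mul_mem (mul_mem (zpow_mem hhM k) htM) (inv_mem (zpow_mem hhM k))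
  refine ⟨fun k => (ClassFull.iterate S.toMover hmM S.fixed_m
    (fun r hr => S.O.lt hr) hLfull k).2, fun k => (ClassFull.iterate S.toMover hmM S.fixed_m
    (fun r hr => ?_) hsfull k).2⟩
  obtain rfl : r = S.π^[S.j] S.s := hr
  exact hjlt S.j

/-- From fixed elements to the twisted group. -/
theorem transfer [Finite K] {W' : Type*} [Group W'] {Φ : Fold E W'} (Md : Model Φ) {a b : ↥(D.group K)}
    (ha : a ∈ fixedPts E.σ) (hb : b ∈ fixedPts E.σ)
    (h : ∀ M : Subgroup ↥(D.group K), a ∈ M → b ∈ M → fixedPts E.σ ≤ M) :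
    ∃ x y : ↥Md.T, Subgroup.closure ({x, y} : Set ↥Md.T) = ⊤ := by
  refine ⟨Md.iso ⟨a, ha⟩, Md.iso ⟨b, hb⟩, ?_⟩
  have h1 : Subgroup.closure ({⟨a, ha⟩, ⟨b, hb⟩} : Set ↥(fixedPts E.σ)) = ⊤ := by
    rw [eq_top_iff]
    intro g _
    have hle := h ((Subgroup.closure ({⟨a, ha⟩, ⟨b, hb⟩} : Set ↥(fixedPts E.σ))).map
      (fixedPts E.σ).subtype) ⟨⟨a, ha⟩, Subgroup.subset_closure (by simp), rfl⟩
      ⟨⟨b, hb⟩, Subgroup.subset_closure (by simp), rfl⟩
    obtain ⟨g', hg', e⟩ := hle g.2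
    rwa [← Subtype.ext (a1 := g') (a2 := g) e]
  have h2 := congrArg (Subgroup.map Md.iso.toMonoidHom) h1
  rw [MonoidHom.map_closure, Set.image_pair,
    Subgroup.map_top_of_surjective _ Md.iso.surjective] at h2
  exact h2

end Cfsg.Agent.H37.TwoGen
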