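import Cfsg.Agent.H38.Ree.Perfect
import Cfsg.Agent.H37.TwoGen.Twisted

/-!
Two generators of `²G₂(q)`.
-/
set_option autoImplicit false
set_option maxRecDepth 100000

namespace Cfsg.Agent.H37.TwoGen.G2

open Cfsg.Lie Cfsg.Agent.H37.RootSys Cfsg.Agent.H37.Twist Cfsg.Agent.H37.NormalForm
open Cfsg.Agent.H38.Ree

variable {K : Type*} [Field K] [Fintype K] (P : H38.Ree.Par K)

theorem units_pow_card (u : Kˣ) : u ^ (3 * P.e ^ 2) = u :=
  Units.ext (by rw [Units.val_pow_eq_pow_val, P.pow_card])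

theorem χ6_surj (u : Kˣ) : ∃ y, P.χ 6 y = u := by
  refine ⟨u ^ (2 + 3 * P.e), ?_⟩
  rw [P.χ6, inv_mul_eq_iff_eq_mul, ← pow_mul, ← pow_mul, ← pow_mul,
    show (2 + 3 * P.e) * (P.e * 3) = 3 * P.e ^ 2 * 3 + 6 * P.e by ring,
    show (2 + 3 * P.e) * 2 = 4 + 6 * P.e by ring, pow_add _ (3 * P.e ^ 2 * 3), pow_mul,
    units_pow_card P, mul_right_comm, ← pow_succ, ← pow_add]

theorem χ8_sq_surj (u : Kˣ) : ∃ y, P.χ 8 y = u ^ 2 := by
  refine ⟨u ^ (3 + 3 * P.e), ?_⟩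
  rw [P.χ8, inv_mul_eq_iff_eq_mul, ← pow_mul,
    show (3 + 3 * P.e) * P.e = 3 * P.e ^ 2 + 3 * P.e by ring, pow_add _ (3 * P.e ^ 2),
    units_pow_card P, mul_right_comm, ← pow_succ', ← pow_add]

theorem χ9_surj (u : Kˣ) : ∃ y, P.χ 9 y = u := by
  refine ⟨u ^ (3 * P.e), ?_⟩
  rw [P.χ9, ← pow_mul, show 3 * P.e * P.e = 3 * P.e ^ 2 by ring, units_pow_card P]

theorem exists_th_ne (hq : 4 < Nat.card K) : ∃ x : K, P.th x ≠ x := by
  classical
  by_contra hcon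
  push Not at hcon
  have h3 : ∀ x : K, x ^ 3 = x := fun x => by
    have := P.ti_th x
    rw [hcon x] at this
    rw [show x ^ 3 = (P.th x) ^ 3 by rw [hcon x]]
    simp only [H38.Ree.Par.th, ← pow_mul, mul_comm P.e 3]
    exact this
  have hs : (Finset.univ : Finset K) ⊆ {0, 1, -1} := by
    intro x _
    have h := h3 x
    have : x * ((x - 1) * (x + 1)) = 0 := by linear_combination h
    rcases mul_eq_zero.1 this with h | h
    · simp [h]
    · rcases mul_eq_zero.1 h with h | h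
      · simp [sub_eq_zero.1 h]
      · simp [eq_neg_of_add_eq_zero_left h]
  have := (Finset.card_le_card hs).trans Finset.card_le_three
  rw [Finset.card_univ, ← Nat.card_eq_fintype_card] at this
  omega

theorem two_gen (hq : 4 < Nat.card K) :
    ∃ x y : ↥(twistedG2 K P.e), Subgroup.closure ({x, y} : Set ↥(twistedG2 K P.e)) = ⊤ := by
  classical
  obtain ⟨g, hg⟩ := IsCyclic.exists_generator (α := Kˣ)
  obtain ⟨h0, hh0, hm⟩ := P.n_mem
  set n := h0 * (Q K).sys.rep (w0 K) with hndef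
  have hn : P.endo.σ n = n := P.TG_iff.1 hm
  refine TwoGen.transfer P.model (a := P.hp g) (b := P.U1 1 0 0 * n) (P.σ_hp g) ?_ ?_
  · show P.endo.σ _ = _
    rw [map_mul, P.σ_U1, hn]
    rfl
  intro M ha hb
  have hT : ∀ y : Kˣ, P.hp y ∈ M := fun y => by
    obtain ⟨k, rfl⟩ := Subgroup.mem_zpowers_iff.1 (hg y)
    rw [map_zpow]
    exact zpow_mem ha k
  -- the conjugated torus element
  have hH : n * P.hp g * n⁻¹ ∈ (Q K).sys.H := by
    have h1 := (Q K).sys.rep_conj_H (w0 K) (P.hp_mem g)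
    rw [hndef, show h0 * (Q K).sys.rep (w0 K) * P.hp g * (h0 * (Q K).sys.rep (w0 K))⁻¹
      = h0 * ((Q K).sys.rep (w0 K) * P.hp g * ((Q K).sys.rep (w0 K))⁻¹) * h0⁻¹ by group]
    exact mul_mem (mul_mem hh0 h1) (inv_mem hh0)
  obtain ⟨y', hy'⟩ := P.exists_hp hH (by rw [map_mul, map_mul, map_inv, hn, P.σ_hp])
  have hg1 : g ≠ 1 := fun h => by
    obtain ⟨x, hx⟩ := exists_th_ne P hq
    by_cases hx0 : x = 0
    · exact hx (by rw [hx0, P.th_zero])
    obtain ⟨k, hk⟩ := Subgroup.mem_zpowers_iff.1 (hg (Units.mk0 x hx0))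
    rw [h, one_zpow] at hk
    have : x = 1 := by simpa using (congrArg Units.val hk).symm
    exact hx (by rw [this, P.th_one])
  have hy1 : y' ≠ 1 := fun h => hg1 (P.hp_inj (by
    rw [h, map_one] at hy'
    rw [map_one]
    exact conj_eq_one_iff.1 hy'.symm))
  have hne : ∀ {y : Kˣ}, y ≠ 1 → (P.χ 6 y : K) - 1 ≠ 0 := fun hy h =>
    hy (P.χ6_eq_one (Units.ext (sub_eq_zero.1 h)))
  -- an element of the first layer
  have first : ∃ z c d : K, z ≠ 0 ∧ P.U1 z c d ∈ M := by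
    set U := P.U1 1 0 0 with hU
    set X := P.hp g * U * (P.hp g)⁻¹ with hX
    have hY : U * P.hp y' * U⁻¹ ∈ M := by
      rw [hy', show U * (n * P.hp g * n⁻¹) * U⁻¹ = (U * n) * P.hp g * (U * n)⁻¹ by group]
      exact mul_mem (mul_mem hb ha) (inv_mem hb)
    have hcom : P.hp g * P.hp y' = P.hp y' * P.hp g := by rw [← map_mul, ← map_mul, mul_comm]
    have hz : X * (P.hp y' * (X⁻¹ * U) * (P.hp y')⁻¹) * U⁻¹ ∈ M := by
      have h1 := mul_mem (mul_mem (mul_mem ha hY) (inv_mem ha)) (inv_mem hY)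
      have e : X * (P.hp y' * (X⁻¹ * U) * (P.hp y')⁻¹) * U⁻¹
          = P.hp g * (U * P.hp y' * U⁻¹) * (P.hp g)⁻¹ * (U * P.hp y' * U⁻¹)⁻¹ := by
        have h2 : (P.hp g)⁻¹ * (P.hp y' * P.hp g) = P.hp y' := by rw [← hcom, inv_mul_cancel_left]
        calc _ = P.hp g * U * ((P.hp g)⁻¹ * (P.hp y' * P.hp g)) * U⁻¹ * (P.hp g)⁻¹ *
              (U * P.hp y' * U⁻¹)⁻¹ := by rw [hX]; group
          _ = _ := by rw [h2]; group
      rwa [e]
    obtain ⟨i1, i2, i3, ei⟩ : ∃ a c d, X⁻¹ = P.U1 a c d := by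
      refine (P.fixed_iff (inv_mem (h_conj_U (P.hp_mem g) (P.U1_mem 1 0 0)))).1 ?_
      simp only [hX, hU, map_mul, map_inv, P.σ_hp, P.σ_U1]
    obtain ⟨u1, u2, u3, eu⟩ : ∃ a c d, U⁻¹ = P.U1 a c d := by
      refine (P.fixed_iff (inv_mem (P.U1_mem 1 0 0))).1 ?_
      simp only [hU, map_inv, P.σ_U1]
    have hXe := hX.trans (P.hp_conj_U1 g 1 0 0)
    have e1 : X * X⁻¹ = 1 := mul_inv_cancel X
    rw [ei, hXe, P.U1_mul, P.U1_eq_one_iff] at e1
    have e2 : U * U⁻¹ = 1 := mul_inv_cancel U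
    rw [eu, hU, P.U1_mul, P.U1_eq_one_iff] at e2
    rw [ei, hXe, eu, hU, P.U1_mul, P.hp_conj_U1, P.U1_mul, P.U1_mul] at hz
    refine ⟨_, _, _, ?_, hz⟩
    have hi : i1 = -(P.χ 6 g : K) := by linear_combination e1.1
    have hu : u1 = -1 := by linear_combination e2.1
    rw [hi, hu, show (P.χ 6 g : K) * 1 + (P.χ 6 y' : K) * (-(P.χ 6 g : K) + 1) + -1
      = -(((P.χ 6 g : K) - 1) * ((P.χ 6 y' : K) - 1)) by ring]
    exact neg_ne_zero.2 (mul_ne_zero (hne hg1) (hne hy1))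
  have layer1 : ∀ a : K, ∃ c d, P.U1 a c d ∈ M := by
    intro a
    by_cases ha0 : a = 0
    · exact ⟨0, 0, by rw [ha0, P.U1_zero]; exact one_mem M⟩
    obtain ⟨z, c, d, hz, hzM⟩ := first
    obtain ⟨y, hy⟩ := χ6_surj P (Units.mk0 (a / z) (div_ne_zero ha0 hz))
    refine ⟨(P.χ 8 y : K) * c, (P.χ 9 y : K) * d, ?_⟩
    have h := mul_mem (mul_mem (hT y) hzM) (inv_mem (hT y))
    rw [P.hp_conj_U1, hy, Units.val_mk0, div_mul_cancel₀ _ hz] at h
    exact h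
  obtain ⟨c1, d1, h1⟩ := layer1 1
  have layer3 : ∀ d : K, P.U1 0 0 d ∈ M := by
    intro d
    by_cases hd : d = 0
    · rw [hd, P.U1_zero]; exact one_mem M
    have h := mul_mem (mul_mem h1 h1) h1
    rw [P.U1_cube, P.th_one] at h
    obtain ⟨y, hy⟩ := χ9_surj P (Units.mk0 (-d) (neg_ne_zero.2 hd))
    have h2 := mul_mem (mul_mem (hT y) h) (inv_mem (hT y))
    rw [P.hp_conj_U1, hy, Units.val_mk0, mul_zero, mul_zero] at h2
    convert h2 using 2
    ring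
  have layer2 : ∀ c : K, ∃ d, P.U1 0 c d ∈ M := by
    obtain ⟨x, hx⟩ := exists_th_ne P hq
    obtain ⟨c2, d2, h2⟩ := layer1 x
    obtain ⟨w1, w2, w3, ew⟩ : ∃ a c d,
        (P.U1 x c2 d2 * P.U1 1 c1 d1)⁻¹ * (P.U1 1 c1 d1 * P.U1 x c2 d2) = P.U1 a c d := by
      refine (P.fixed_iff (mul_mem (inv_mem (mul_mem (P.U1_mem _ _ _) (P.U1_mem _ _ _)))
        (mul_mem (P.U1_mem _ _ _) (P.U1_mem _ _ _)))).1 ?_
      simp only [map_mul, map_inv, P.σ_U1]
    have hw : P.U1 w1 w2 w3 ∈ M :=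
      ew ▸ mul_mem (inv_mem (mul_mem h2 h1)) (mul_mem h1 h2)
    rw [inv_mul_eq_iff_eq_mul, P.U1_mul, P.U1_mul, P.U1_mul] at ew
    obtain ⟨e1, e2, -⟩ := P.U1_inj ew
    have hw1 : w1 = 0 := by linear_combination -e1
    subst hw1
    rw [P.th_one] at e2
    have hw2 : w2 ≠ 0 := fun h => hx (by rw [h] at e2; linear_combination e2)
    have hsq : ∀ s : K, ∃ d, P.U1 0 (s ^ 2 * w2) d ∈ M := by
      intro s
      by_cases hs : s = 0
      · exact ⟨0, by rw [hs, zero_pow two_ne_zero, zero_mul, P.U1_zero]; exact one_mem M⟩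
      obtain ⟨y, hy⟩ := χ8_sq_surj P (Units.mk0 s hs)
      refine ⟨(P.χ 9 y : K) * w3, ?_⟩
      have h := mul_mem (mul_mem (hT y) hw) (inv_mem (hT y))
      rw [P.hp_conj_U1, hy, mul_zero, Units.val_pow_eq_pow_val, Units.val_mk0] at h
      exact h
    intro c
    obtain ⟨d3, hd3⟩ := hsq (c / w2 - 1)
    obtain ⟨d4, hd4⟩ := hsq (c / w2 + 1)
    refine ⟨-d3 + d4, ?_⟩
    have h := mul_mem (inv_mem hd3) hd4
    have e : (P.U1 0 ((c / w2 - 1) ^ 2 * w2) d3)⁻¹ = P.U1 0 (-((c / w2 - 1) ^ 2 * w2)) (-d3) :=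
      inv_eq_of_mul_eq_one_right (by
        rw [P.U1_mul, P.th_zero, P.U1_eq_one_iff]
        exact ⟨by ring, by ring, by ring⟩)
    rw [e, P.U1_mul, P.th_zero] at h
    convert h using 2
    · ring
    · field_simp
      linear_combination (-(w2 * c)) * P.three_eq
    · ring
  have hall : ∀ a c d : K, P.U1 a c d ∈ M := by
    intro a c d
    obtain ⟨c', d', h⟩ := layer1 a
    obtain ⟨d'', h'⟩ := layer2 (c - c')
    have h2 := mul_mem (mul_mem h h') (layer3 (d - d' - d''))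
    rw [P.U1_mul, P.U1_mul, P.th_zero] at h2
    convert h2 using 2 <;> ring
  have hnM : n ∈ M := (Subgroup.mul_mem_cancel_left M (hall 1 0 0)).1 hb
  intro x hx
  have hxT : (x : GL chevG2.Idx K) ∈ twistedG2 K P.e := P.mem_T.2 hx
  rw [P.T_eq] at hxT
  obtain ⟨x', hx', e⟩ := hxT
  rw [← Subtype.ext (a1 := x') (a2 := x) e]
  refine (Subgroup.closure_le _).2 ?_ hx'
  rintro v ⟨a, c, d, rfl | rfl⟩
  · exact hall a c d
  · set u := n⁻¹ * P.V1 a c d * n with hu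
    have huU : u ∈ (Q K).sys.U := by
      have hneg : h0⁻¹ * P.V1 a c d * h0⁻¹⁻¹ ∈
          XS (Q K).sys.x (↑(negSet chevG2) : Set ℕ) := by
        refine conj_mem_XS (fun r hr t => ?_) (P.V1_neg a c d)
        obtain ⟨t', e'⟩ :=
          (Q K).sys.h_conj h0⁻¹ (inv_mem hh0) r (mem_negSet.1 (Finset.mem_coe.1 hr)).1 t
        rw [e']
        exact x_mem_XS hr _
      have h2 := neg_conj hneg
      rwa [show ((Q K).sys.rep (w0 K))⁻¹ * (h0⁻¹ * P.V1 a c d * h0⁻¹⁻¹) * (Q K).sys.rep (w0 K)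
        = u by rw [hu, hndef]; group] at h2
    obtain ⟨a', c', d', eu⟩ :=
      (P.fixed_iff huU).1 (by rw [hu, map_mul, map_mul, map_inv, hn, P.σ_V1])
    rw [show P.V1 a c d = n * u * n⁻¹ by rw [hu]; group, eu]
    exact mul_mem (mul_mem hnM (hall a' c' d')) (inv_mem hnM)

end Cfsg.Agent.H37.TwoGen.G2
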