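import Cfsg.Agent.H37.TwoGen.Basic
import Cfsg.Agent.H37.Twist.Pieces

/-!
The criterion with a root element in front of the Weyl representative, and the criterion over two
elements.
-/
set_option autoImplicit false

namespace Cfsg.Agent.H37.TwoGen

open Cfsg.Lie Cfsg.Agent.H37.RootSys Cfsg.Agent.H37.Twist

variable {D : ChevalleyDatum} {F : Type*} [Field F] (Q : Chev.Data D F)

theorem cox_conj_H {h : ↥(D.group F)} (hh : h ∈ Q.sys.H) :
    cox Q * h * (cox Q)⁻¹ ∈ Q.sys.H := by
  obtain ⟨k, hk, e⟩ := rep_word Q (List.range D.rank)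
    fun a ha => Q.rank_eq ▸ List.mem_range.1 ha
  rw [show cox Q = k * Q.sys.rep (Weyl.wOf Q.X.M (List.range D.rank)) from e,
    show ∀ a b : ↥(D.group F), a * b * h * (a * b)⁻¹ = a * (b * h * b⁻¹) * a⁻¹ from
      fun a b => by group]
  exact mul_mem (mul_mem hk (Q.sys.rep_conj_H _ hh)) (inv_mem hk)

theorem H_comm {g h : ↥(D.group F)} (hg : g ∈ Q.sys.H) (hh : h ∈ Q.sys.H) : g * h = h * g := by
  obtain ⟨c, rfl⟩ := exists_tG Q hg
  obtain ⟨d, rfl⟩ := exists_tG Q hh
  rw [← map_mul, ← map_mul, mul_comm]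

theorem twoGen_B [Finite F] {h r L j : ℕ} {k : List ℤ} {l : List (ℕ × ℕ)}
    (hF : ∃ x : F, x ≠ 0 ∧ x ≠ 1) (hc : critB Q.K h r L j k l = true) :
    ∃ a b : ↥(D.group F), Subgroup.closure ({a, b} : Set ↥(D.group F)) = ⊤ := by
  haveI : Fintype F := Fintype.ofFinite F
  simp only [critB, Bool.and_eq_true, Bool.or_eq_true, beq_iff_eq, decide_eq_true_eq] at hc
  obtain ⟨⟨⟨⟨⟨⟨hr, hL⟩, h0⟩, e1⟩, e2⟩, hj⟩, hcov⟩ := hc
  obtain ⟨ζ, hζ⟩ := IsCyclic.exists_generator (α := Fˣ)
  have hne : ∀ e : ℤ, e = 1 ∨ e = -1 → ((ζ ^ e : Fˣ) : F) ≠ 1 := by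
    intro e he h1
    obtain ⟨x, hx0, hx1⟩ := hF
    have hz : ζ = 1 := by
      rw [Units.val_eq_one] at h1
      rcases he with rfl | rfl <;> simpa using h1
    obtain ⟨i, hi⟩ := Subgroup.mem_zpowers_iff.1 (hζ (Units.mk0 x hx0))
    rw [hz, one_zpow] at hi
    exact hx1 (congrArg Units.val hi).symm
  obtain ⟨hL', ε, hε, eL⟩ := cox_conj Q hL
  set L' := coxMap Q.K L
  refine ⟨tor Q ζ k * xG Q.K F r 1, xG Q.K F L' 1 * cox Q, ?_⟩
  set M := Subgroup.closure
    ({tor Q ζ k * xG Q.K F r 1, xG Q.K F L' 1 * cox Q} : Set ↥(D.group F))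
  obtain ⟨hh, hx⟩ := split_gen Q M (ζ := ζ) hr h0 (Subgroup.subset_closure (by simp))
  have hb : xG Q.K F L' 1 * cox Q ∈ M := Subgroup.subset_closure (by simp)
  set t := tor Q ζ k with ht
  set X := xG Q.K F L' 1 with hX
  set t' := cox Q * t * (cox Q)⁻¹ with ht'
  set c := ((ζ ^ ev D k L' : Fˣ) : F) with hcdef
  set d := ((ζ ^ ev D k L : Fˣ) : F) with hddef
  have hcomm : t * t' = t' * t := H_comm Q (tG_mem Q _) (cox_conj_H Q (tG_mem Q _))
  have hconj : ∀ s : F, t' * xG Q.K F L' s * t'⁻¹ = xG Q.K F L' (d * s) := by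
    intro s
    have hs : s = ε * (ε * s) := by rcases hε with rfl | rfl <;> ring
    conv_lhs => rw [hs, ← eL]
    rw [ht', show ∀ n a y : ↥(D.group F),
      n * a * n⁻¹ * (n * y * n⁻¹) * (n * a * n⁻¹)⁻¹ = n * (a * y * a⁻¹) * n⁻¹ from
        fun n a y => by group, ht, tor_conj Q ζ k hL, eL]
    congr 1
    rw [hddef]
    rcases hε with rfl | rfl <;> ring
  have hy : X * t' * X⁻¹ ∈ M := by
    rw [ht', show ∀ n a : ↥(D.group F), X * (n * a * n⁻¹) * X⁻¹ = X * n * a * (X * n)⁻¹ from
      fun n a => by group]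
    exact mul_mem (mul_mem hb hh) (inv_mem hb)
  have hadd : ∀ a b : F, xG Q.K F L' a * xG Q.K F L' b = xG Q.K F L' (a + b) := fun a b =>
    Subtype.ext (Q.K.xU_add F L' a b)
  have hinv : ∀ a : F, (xG Q.K F L' a)⁻¹ = xG Q.K F L' (-a) := fun a =>
    Subtype.ext (Q.K.xU_inv F L' a)
  have hXt : t * X * t⁻¹ = xG Q.K F L' c := by rw [ht, hX, tor_conj Q ζ k hL', mul_one]
  have hz : xG Q.K F L' (c + d * (1 - c) + -1) ∈ M := by
    have h1 : t * (X * t' * X⁻¹) * t⁻¹ * (X * t' * X⁻¹)⁻¹ ∈ M :=
      mul_mem (mul_mem (mul_mem hh hy) (inv_mem hh)) (inv_mem hy)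
    rw [show t * (X * t' * X⁻¹) * t⁻¹ * (X * t' * X⁻¹)⁻¹
        = (t * X * t⁻¹) * (t * t' * t⁻¹) * (t * X * t⁻¹)⁻¹ * X * t'⁻¹ * X⁻¹ by group,
      hcomm, mul_inv_cancel_right, hXt, hinv, hX,
      show ∀ a b y : ↥(D.group F), a * t' * b * y * t'⁻¹ = a * (t' * (b * y) * t'⁻¹) from
        fun a b y => by group, hadd, hconj, hinv, hadd, hadd] at h1
    convert h1 using 3
    ring
  have hnz : c + d * (1 - c) + -1 ≠ 0 := by
    rw [show c + d * (1 - c) + -1 = (c - 1) * (1 - d) by ring]
    exact mul_ne_zero (sub_ne_zero.2 (hne _ e2)) (sub_ne_zero.2 (hne _ e1).symm)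
  have hfull : Full Q M L' := full_of_torus Q M hζ hh hL' (by
    rcases e2 with h | h <;> simp [okExp, L', h]) hnz hz
  have hn : cox Q ∈ M := (Subgroup.mul_mem_cancel_left M (hfull 1)).1 hb
  obtain ⟨hlt, hmove⟩ := orbit_mem Q M hn hr j
  have hf2 := full_of_torus Q M hζ hh hlt hj one_ne_zero (hmove 1 hx)
  refine top_of_covers Q M ?_ hcov
  intro x hx'
  rcases List.mem_append.1 hx' with hx' | hx'
  · exact full_orbit Q M hn hr (fun s => orbit_back Q M hn j hr s (hf2 s)) x hx'
  · exact full_orbit Q M hn hL' hfull x hx'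

/-- One further root from known ones and the two conjugates of the first generator: the word. -/
def blockWord (C : Chevalley.Cert D) (r s : ℕ) : List (Sum (ℕ × Bool) ℕ) → List (ℕ × ℤ) :=
  List.flatMap fun b => match b with
    | .inl (i, false) => [((coxMap C)^[i] r, 1), ((coxMap C)^[i] s, 1)]
    | .inl (i, true) => [((coxMap C)^[i] s, 1), ((coxMap C)^[i] r, 1)]
    | .inr v => [(v, 1)]

/-- Successive roots, each checked as an identity modulo 2. -/
def chain2 (C : Chevalley.Cert D) (h r s : ℕ) :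
    List ℕ → List (ℕ × List (Sum (ℕ × Bool) ℕ)) → Option (List ℕ)
  | S, [] => some S
  | S, (u, w) :: l =>
      if decide (u < D.nroots) && (w.all fun b => match b with
          | .inl _ => true
          | .inr v => S.contains v) && sameWordP 2 D [(u, 1)] (blockWord C r s w) then
        chain2 C h r s (orbit C h u ++ S) l
      else none

/-- The checks over two elements. -/
def critC (C : Chevalley.Cert D) (h r s : ℕ) (l : List (ℕ × List (Sum (ℕ × Bool) ℕ))) : Bool :=
  decide (r < D.nroots) && decide (s < D.nroots) &&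
  match chain2 C h r s [] l with
  | some S => (List.range D.nroots).all fun x => S.contains x
  | none => false

theorem twoGen_C [Fintype F] (hF : Fintype.card F = 2) {h r s : ℕ}
    {l : List (ℕ × List (Sum (ℕ × Bool) ℕ))} (hc : critC Q.K h r s l = true) :
    ∃ a b : ↥(D.group F), Subgroup.closure ({a, b} : Set ↥(D.group F)) = ⊤ := by
  haveI : CharP F 2 := charP_of_card Nat.prime_two (k := 1) (by simpa using hF)
  simp only [critC, Bool.and_eq_true, decide_eq_true_eq] at hc
  obtain ⟨⟨hr, hs⟩, hc⟩ := hc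
  split at hc
  case h_2 => simp at hc
  rename_i S hS
  simp only [List.all_eq_true, List.mem_range, List.contains_iff_mem] at hc
  have hneg1 : ∀ ε : F, (ε = 1 ∨ ε = -1) → ε = 1 := fun ε he => by
    rcases he with rfl | rfl
    · rfl
    · exact CharTwo.neg_eq 1
  have hone : ∀ t : F, t = 0 ∨ t = 1 := by
    classical
    intro t
    by_contra hcon
    obtain ⟨h0, h1⟩ := not_or.1 hcon
    have : ({0, 1, t} : Finset F).card ≤ 2 := hF ▸ Finset.card_le_univ _
    rw [Finset.card_insert_of_notMem (by simp [Ne.symm h0]),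
      Finset.card_insert_of_notMem (by simp [Ne.symm h1]), Finset.card_singleton] at this
    omega
  refine ⟨xG Q.K F r 1 * xG Q.K F s 1, cox Q, ?_⟩
  set M := Subgroup.closure ({xG Q.K F r 1 * xG Q.K F s 1, cox Q} : Set ↥(D.group F))
  have hn : cox Q ∈ M := Subgroup.subset_closure (by simp)
  have hfullOf : ∀ u : ℕ, u < D.nroots → xG Q.K F u 1 ∈ M → Full Q M u := by
    intro u _ hu t
    rcases hone t with rfl | rfl
    · rw [show xG Q.K F u (0 : F) = 1 from Subtype.ext (Q.K.xU_zero F u)]; exact one_mem M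
    · exact hu
  have hpair : ∀ i : ℕ,
      xG Q.K F ((coxMap Q.K)^[i] r) 1 * xG Q.K F ((coxMap Q.K)^[i] s) 1 ∈ M := by
    intro i
    induction i with
    | zero => exact Subgroup.subset_closure (by simp)
    | succ i ih =>
        obtain ⟨-, ε, hε, e⟩ := cox_conj Q (orbit_mem Q ⊤ (Subgroup.mem_top _) hr i).1
        obtain ⟨-, δ, hδ, e'⟩ := cox_conj Q (orbit_mem Q ⊤ (Subgroup.mem_top _) hs i).1
        have h2 := mul_mem (mul_mem hn ih) (inv_mem hn)
        rw [show ∀ a b : ↥(D.group F), cox Q * (a * b) * (cox Q)⁻¹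
          = cox Q * a * (cox Q)⁻¹ * (cox Q * b * (cox Q)⁻¹) from fun a b => by group, e, e',
          hneg1 ε hε, hneg1 δ hδ, one_mul] at h2
        rwa [Function.iterate_succ_apply', Function.iterate_succ_apply']
  have hblock : ∀ (S : List ℕ), (∀ x ∈ S, x < D.nroots ∧ Full Q M x) →
      ∀ w : List (Sum (ℕ × Bool) ℕ), (∀ b ∈ w, ∀ v, b = Sum.inr v → v ∈ S) →
      wG Q (castW F (blockWord Q.K r s w)) ∈ M := by
    intro S hS' w
    induction w with
    | nil => intro _; exact one_mem M
    | cons b w ih =>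
        intro hw
        rw [show blockWord Q.K r s (b :: w) = blockWord Q.K r s [b] ++ blockWord Q.K r s w by
          simp [blockWord], castW, List.map_append, wG_append]
        refine mul_mem ?_ (ih fun b' hb' => hw b' (List.mem_cons_of_mem _ hb'))
        rcases b with ⟨i, _ | _⟩ | v
        · simpa [blockWord, wG] using hpair i
        · have h2 := inv_mem (hpair i)
          rw [mul_inv_rev] at h2
          have e : ∀ u : ℕ, (xG Q.K F u (1 : F))⁻¹ = xG Q.K F u 1 := fun u =>
            Subtype.ext ((Q.K.xU_inv F u 1).trans (by rw [CharTwo.neg_eq]; rfl))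
          rw [e, e] at h2
          simpa [blockWord, wG] using h2
        · simpa [blockWord, wG] using (hS' v (hw _ (by simp) v rfl)).2 1
  have hchain : ∀ (l : List (ℕ × List (Sum (ℕ × Bool) ℕ))) (S0 S : List ℕ),
      (∀ x ∈ S0, x < D.nroots ∧ Full Q M x) → chain2 Q.K h r s S0 l = some S →
      ∀ x ∈ S, x < D.nroots ∧ Full Q M x := by
    intro l
    induction l with
    | nil => intro S0 S h0 e; rw [chain2] at e; obtain rfl := Option.some.inj e; exact h0
    | cons p l ih =>
        obtain ⟨u, w⟩ := p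
        intro S0 S h0 e
        rw [chain2] at e
        split at e
        case isFalse => simp at e
        rename_i hcond
        simp only [Bool.and_eq_true, decide_eq_true_eq, List.all_eq_true] at hcond
        obtain ⟨⟨hu, hw⟩, hsame⟩ := hcond
        refine ih _ S ?_ e
        have hw' := hblock S0 h0 w fun b hb v hv => by
          have := hw b hb
          subst hv
          simpa using this
        rw [← wG_eq_of_sameWordP 2 hsame] at hw'
        have hfu := hfullOf u hu (by simpa [castW, wG] using hw')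
        intro x hx
        rcases List.mem_append.1 hx with hx | hx
        · exact full_orbit Q M hn hu hfu x hx
        · exact h0 x hx
  refine top_of_covers Q M (S := S) (l := []) (hchain l [] S (by simp) hS) ?_
  simpa [covers, steps] using hc

end Cfsg.Agent.H37.TwoGen
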